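import Groth.Agent.Lib.FlatDesc.Basic
import Groth.Agent.Lib.FlatFP.BaseChangeAt
import Groth.Agent.Lib.CMMor6.BaseChange

/-!
# Flatness over the base along morphisms flat at a point
-/

set_option autoImplicit false
set_option backward.isDefEq.respectTransparency false
set_option backward.isDefEq.respectTransparency.types false

universe u

open CategoryTheory CategoryTheory.Limits AlgebraicGeometry TensorProduct

namespace GrothLib.FunFlat6

variable {X Y Z : Scheme.{u}}

/-- Flatness of a flat pullback over a further base is flatness at the image. -/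
theorem isFlatOverAt_comp_pullback_iff' (f : X ⟶ Y) (g : Y ⟶ Z) (G : Y.Modules) (x : X)
    (hflat : (f.stalkMap x).hom.Flat) :
    FlatMod.IsFlatOverAt (f ≫ g) ((Scheme.Modules.pullback f).obj G) x ↔ FlatMod.IsFlatOverAt g G (f x) := by
  let C := Z.presheaf.stalk (g (f x))
  let B := Y.presheaf.stalk (f x)
  let S := X.presheaf.stalk x
  let M := ((Scheme.Modules.pullback f).obj G).presheaf.stalk x
  let N := G.presheaf.stalk (f x)
  let : Algebra C B := (g.stalkMap (f x)).hom.toAlgebra
  let : Algebra B S := (f.stalkMap x).hom.toAlgebra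
  let : Algebra C S := ((f.stalkMap x).hom.comp (g.stalkMap (f x)).hom).toAlgebra
  have : IsScalarTower C B S := IsScalarTower.of_algebraMap_eq' rfl
  let : Module C N := Module.compHom N (algebraMap C B)
  have : IsScalarTower C B N := IsScalarTower.of_algebraMap_smul fun _ _ => rfl
  let : Module C M := Module.compHom M (algebraMap C S)
  have : IsScalarTower C S M := IsScalarTower.of_algebraMap_smul fun _ _ => rfl
  have : Module.Flat B S := hflat
  have : IsLocalHom (algebraMap B S) := inferInstanceAs (IsLocalHom (f.stalkMap x).hom)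
  have : Module.FaithfullyFlat B S := Module.FaithfullyFlat.of_flat_of_isLocalHom
  let e : M ≃ₗ[S] S ⊗[B] N := ((QCoh.stalkPullbackIso f x).app G).toLinearEquiv
  have h1 : FlatMod.IsFlatOverAt (f ≫ g) ((Scheme.Modules.pullback f).obj G) x ↔ Module.Flat C M := by
    have : FlatMod.moduleStalkOver (f ≫ g) ((Scheme.Modules.pullback f).obj G) x = (inferInstance : Module C M) := by
      refine Module.ext' _ _ fun c m => ?_
      show ((f ≫ g).stalkMap x).hom c • m = ((f.stalkMap x).hom ((g.stalkMap (f x)).hom c)) • m
      rw [Scheme.Hom.stalkMap_comp]; rfl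
    unfold FlatMod.IsFlatOverAt
    rw [this]
    rfl
  rw [h1]
  show _ ↔ Module.Flat C N
  constructor
  · intro h
    have : Module.Flat C (S ⊗[B] N) := Module.Flat.of_linearEquiv (e.restrictScalars C).symm
    exact FlatDesc.flat_of_flat_tensor (B := B) (S := S)
  · intro h
    have : Module.Flat C (S ⊗[B] N) := FlatDesc.flat_tensor
    exact Module.Flat.of_linearEquiv (e.restrictScalars C)

/-- Flat over `Y` is flat over `Z` when `Y` is flat over `Z`. -/
theorem isFlatOverAt_comp' (f : X ⟶ Y) (g : Y ⟶ Z) (M : X.Modules) (x : X)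
    (hflat : (g.stalkMap (f x)).hom.Flat)
    (h : FlatMod.IsFlatOverAt f M x) : FlatMod.IsFlatOverAt (f ≫ g) M x := by
  let C := Z.presheaf.stalk (g (f x))
  let B := Y.presheaf.stalk (f x)
  let N := M.presheaf.stalk x
  let : Algebra C B := (g.stalkMap (f x)).hom.toAlgebra
  have : Module.Flat C B := hflat
  let : Module B N := FlatMod.moduleStalkOver f M x
  let : Module C N := FlatMod.moduleStalkOver (f ≫ g) M x
  have : IsScalarTower C B N := IsScalarTower.of_algebraMap_smul fun c m => by
    show (f.stalkMap x).hom ((g.stalkMap (f x)).hom c) • m = ((f ≫ g).stalkMap x).hom c • m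
    rw [Scheme.Hom.stalkMap_comp]; rfl
  have : Module.Flat B N := h
  exact (Module.Flat.trans C B N : Module.Flat C N)

theorem isFlatOverAt_congr_map {X Y : Scheme.{u}} {f f' : X ⟶ Y} (e : f = f') (M : X.Modules) (x : X) :
    FlatMod.IsFlatOverAt f M x ↔ FlatMod.IsFlatOverAt f' M x := by subst e; rfl

/-- Flatness over the base descends along a base change flat at the point. -/
theorem isFlatOverAt_descend {X S X' S' : Scheme.{u}} {f : X ⟶ S} {f' : X' ⟶ S'} {g' : X' ⟶ X} {g : S' ⟶ S}
    (hc : IsPullback g' f' f g) (F : X.Modules) (x' : X') (hg : (g.stalkMap (f' x')).hom.Flat)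
    (h : FlatMod.IsFlatOverAt f' ((Scheme.Modules.pullback g').obj F) x') :
    FlatMod.IsFlatOverAt f F (g' x') := by
  have h1 := isFlatOverAt_comp' f' g _ x' hg h
  rw [isFlatOverAt_congr_map hc.w.symm] at h1
  exact (isFlatOverAt_comp_pullback_iff' g' f F x' (CMMor6.flat_stalkMap_baseChange hc.flip x' hg)).1 h1

end GrothLib.FunFlat6
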