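import Groth.Agent.Lib.FunFlat6.LimitBase
import Groth.Agent.Lib.RingStage.Tmul
import Groth.Agent.Lib.QCoh.SupportPullback
import Groth.Agent.Lib.QCoh.PullbackSections
import Groth.Agent.Lib.FittSheaf.Basic
import Groth.Agent.Lib.QCoh.GenericPoint
import Groth.Agent.Lib.FlatLimit.Geometric

/-!
# Surjectivity and vanishing of a homomorphism of modules come from a stage
-/

set_option autoImplicit false
set_option linter.style.haveILetI false

universe u

open CategoryTheory CategoryTheory.Limits AlgebraicGeometry Opposite TensorProduct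

namespace GrothLib.FunFlat6

section Square

variable {X₀ T₀ X' T' : Scheme.{u}} {q : X' ⟶ X₀} {f' : X' ⟶ T'} {f₀ : X₀ ⟶ T₀} {p : T' ⟶ T₀}

/-- The preimage of an open in an affine base change. -/
abbrev sqOpen (q : X' ⟶ X₀) (f' : X' ⟶ T') (W : X₀.Opens) : X'.Opens := q ⁻¹ᵁ W ⊓ f' ⁻¹ᵁ ⊤

theorem isAffineOpen_sqOpen (sq : IsPullback q f' f₀ p) [IsAffine T₀] [IsAffine T'] {W : X₀.Opens}
    (hW : IsAffineOpen W) : IsAffineOpen (sqOpen q f' W) :=
  FlatLimit.isAffineOpen_square sq (V₀ := ⊤) (le_of_eq p.preimage_top.symm) (le_of_le_of_eq le_top f₀.preimage_top.symm)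
    (isAffineOpen_top T₀) (isAffineOpen_top T') hW

/-- The functions of the base acting on the sections over an open. -/
@[instance_reducible] noncomputable def baseModule (f₀ : X₀ ⟶ T₀) (G : X₀.Modules) (W : X₀.Opens) :
    Module Γ(T₀, ⊤) Γ(G, W) :=
  Module.compHom _ (f₀.appLE ⊤ W (le_of_le_of_eq le_top f₀.preimage_top.symm)).hom

set_option maxHeartbeats 1000000 in
/-- A pulled back section vanishes iff it vanishes in the base change over the base. -/
theorem pullSec_eq_zero_iff (sq : IsPullback q f' f₀ p) [IsAffine T₀] [IsAffine T'] {W : X₀.Opens}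
    (hW : IsAffineOpen W) (G : X₀.Modules) [G.IsQuasicoherent] (n : Γ(G, W)) :
    letI := baseModule f₀ G W
    letI := p.appTop.hom.toAlgebra
    QCoh.pullSec q G (inf_le_left : sqOpen q f' W ≤ _) n = 0 ↔
      (1 : Γ(T', ⊤)) ⊗ₜ[Γ(T₀, ⊤)] n = 0 := by
  letI instM : Module Γ(T₀, ⊤) Γ(G, W) := baseModule f₀ G W
  letI instA : Algebra Γ(T₀, ⊤) Γ(T', ⊤) := p.appTop.hom.toAlgebra
  have eV : (⊤ : T'.Opens) ≤ p ⁻¹ᵁ ⊤ := le_of_eq p.preimage_top.symm
  have eU : W ≤ f₀ ⁻¹ᵁ (⊤ : T₀.Opens) := le_of_le_of_eq le_top f₀.preimage_top.symm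
  letI : Algebra Γ(T₀, ⊤) Γ(X₀, W) := (f₀.appLE ⊤ W eU).hom.toAlgebra
  letI : Algebra Γ(T', ⊤) Γ(X', sqOpen q f' W) := (f'.appLE ⊤ (sqOpen q f' W) inf_le_right).hom.toAlgebra
  letI : Algebra Γ(X₀, W) Γ(X', sqOpen q f' W) := (q.appLE W (sqOpen q f' W) inf_le_left).hom.toAlgebra
  letI : Algebra Γ(T₀, ⊤) Γ(X', sqOpen q f' W) :=
    ((algebraMap Γ(T', ⊤) Γ(X', sqOpen q f' W)).comp (algebraMap Γ(T₀, ⊤) Γ(T', ⊤))).toAlgebra
  haveI : IsScalarTower Γ(T₀, ⊤) Γ(T', ⊤) Γ(X', sqOpen q f' W) := IsScalarTower.of_algebraMap_eq' rfl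
  have halgT : algebraMap Γ(T₀, ⊤) Γ(T', ⊤) = (p.appLE ⊤ ⊤ eV).hom := by
    show p.appTop.hom = _
    rw [Scheme.Hom.appTop, Scheme.Hom.app_eq_appLE]
    rfl
  haveI : IsScalarTower Γ(T₀, ⊤) Γ(X₀, W) Γ(X', sqOpen q f' W) := IsScalarTower.of_algebraMap_eq' (by
    show (f'.appLE ⊤ (sqOpen q f' W) _).hom.comp (algebraMap Γ(T₀, ⊤) Γ(T', ⊤)) =
      (q.appLE W (sqOpen q f' W) _).hom.comp (f₀.appLE ⊤ W eU).hom
    rw [halgT, ← CommRingCat.hom_comp, ← CommRingCat.hom_comp, Scheme.Hom.appLE_comp_appLE,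
      Scheme.Hom.appLE_comp_appLE]
    simp only [sq.w])
  haveI : Algebra.IsPushout Γ(T₀, ⊤) Γ(T', ⊤) Γ(X₀, W) Γ(X', sqOpen q f' W) :=
    FlatLimit.isPushout_square sq eV eU (isAffineOpen_top T₀) (isAffineOpen_top T') hW halgT rfl rfl rfl
  haveI : IsScalarTower Γ(T₀, ⊤) Γ(X₀, W) Γ(G, W) := IsScalarTower.of_algebraMap_smul fun _ _ => rfl
  let E := LinearEquiv.ofBijective _
    (QCoh.bijective_sectionsMap q G inf_le_left rfl hW (isAffineOpen_sqOpen sq hW))
  have hE : QCoh.pullSec q G (inf_le_left : sqOpen q f' W ≤ _) n =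
      E ((1 : Γ(X', sqOpen q f' W)) ⊗ₜ[Γ(X₀, W)] n) := by
    rw [LinearEquiv.ofBijective_apply, QCoh.sectionsMap_tmul, one_smul]
  rw [hE, LinearEquiv.map_eq_zero_iff,
    ← LinearEquiv.map_eq_zero_iff
      (Algebra.IsPushout.cancelBaseChange Γ(T₀, ⊤) Γ(T', ⊤) Γ(X₀, W) Γ(X', sqOpen q f' W) Γ(G, W)),
    Algebra.IsPushout.cancelBaseChange_tmul]

end Square

/-- A homomorphism killing the sections over affine opens covering the scheme is zero. -/
theorem eq_zero_of_cover {Y : Scheme.{u}} {F G : Y.Modules} [F.IsQuasicoherent] (v : F ⟶ G)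
    {ι : Type*} (P : ι → Y.Opens) (hP : ∀ i, IsAffineOpen (P i)) (hcov : ∀ y : Y, ∃ i, y ∈ P i)
    (h : ∀ i (s : Γ(F, P i)), v.app (P i) s = 0) : v = 0 := by
  refine (OX.eq_zero_iff v).2 fun y => ?_
  obtain ⟨i, hy⟩ := hcov y
  letI := Y.presheaf.algebra_section_stalk ⟨y, hy⟩
  letI : Module Γ(Y, P i) (F.presheaf.stalk y) := Module.compHom _ (Y.presheaf.germ (P i) y hy).hom
  obtain ⟨g, hg, hg'⟩ := FlatFP.isLocalizedModule_germ F (hP i) hy
  refine ModuleCat.hom_ext (LinearMap.ext fun (e : F.presheaf.stalk y) => ?_)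
  obtain ⟨⟨m, c⟩, hmc⟩ := IsLocalizedModule.surj (WeakAss.primeAt y hy).primeCompl g e
  have hu : IsUnit (Y.presheaf.germ (P i) y hy (c : Γ(Y, P i))) :=
    (Scheme.mem_basicOpen _ (c : Γ(Y, P i)) y hy).mp (WeakAss.notMem_primeAt_iff.mp c.2)
  refine hu.smul_eq_zero.mp (((QCoh.stalkLin v y).map_smul _ e).symm.trans ?_)
  show QCoh.stalkLin v y ((c : Γ(Y, P i)) • e) = 0
  refine (congrArg (QCoh.stalkLin v y) hmc).trans ((congrArg (QCoh.stalkLin v y) (hg' m)).trans ?_)
  rw [QCoh.stalkLin_germ, h, map_zero]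

/-- An inverse image of a homomorphism vanishes on an affine open once it kills pulled back generators. -/
theorem app_pullback_eq_zero {Y Z : Scheme.{u}} (q : Y ⟶ Z) {F G : Z.Modules} [F.IsQuasicoherent]
    (v : F ⟶ G) {U : Z.Opens} {P : Y.Opens} (hU : IsAffineOpen U) (hP : IsAffineOpen P)
    (e : P ≤ q ⁻¹ᵁ U) {κ : Type*} (m : κ → Γ(F, U)) (hm : Submodule.span Γ(Z, U) (Set.range m) = ⊤)
    (h : ∀ k, QCoh.pullSec q G e (v.app U (m k)) = 0) (s : Γ((Scheme.Modules.pullback q).obj F, P)) :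
    ((Scheme.Modules.pullback q).map v).app P s = 0 := by
  letI : Algebra Γ(Z, U) Γ(Y, P) := (q.appLE U P e).hom.toAlgebra
  obtain ⟨z, rfl⟩ := (QCoh.bijective_sectionsMap q F e rfl hU hP).2 s
  show QCoh.appLinear ((Scheme.Modules.pullback q).map v) P (QCoh.sectionsMap q F e rfl z) = 0
  induction z using TensorProduct.induction_on with
  | zero => rw [map_zero, map_zero]
  | add a b ha hb => rw [map_add, map_add, ha, hb, add_zero]
  | tmul b s =>
    rw [QCoh.sectionsMap_tmul, map_smul, QCoh.pullSec_natural]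
    suffices hs : QCoh.pullSec q G e (QCoh.appLinear v U s) = 0 by rw [hs, smul_zero]
    induction (hm.ge Submodule.mem_top : s ∈ Submodule.span Γ(Z, U) (Set.range m)) using
      Submodule.span_induction with
    | mem x hx => obtain ⟨k, rfl⟩ := hx; exact h k
    | zero => rw [map_zero, map_zero]
    | add x y _ _ hx hy => rw [map_add, map_add, hx, hy, add_zero]
    | smul a x _ hx => rw [map_smul, QCoh.pullSec_smul, hx, smul_zero]

section Core

variable {S X : Scheme.{u}} (f : X ⟶ S) {I : Type u} [SmallCategory I] [IsCofiltered I]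
  (D : I ⥤ Over S) (c : Cone D) (hc : IsLimit ((Over.forget S).mapCone c))
  [∀ i, IsAffine (D.obj i).left] (i₀ : I)

omit [SmallCategory I] [IsCofiltered I] in
theorem compactSpace_XT [QuasiCompact f] (T : Over S) [IsAffine T.left] : CompactSpace (PicF.XT f T) :=
  QuasiCompact.compactSpace_of_compactSpace (PicF.XTproj f T)

theorem epi_pullback_iff_forall {Y Z : Scheme.{u}} (q : Y ⟶ Z) {F G : Z.Modules} [F.IsQuasicoherent]
    [G.IsQuasicoherent] (hG : CohB1.IsFT G) (v : F ⟶ G) :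
    Epi ((Scheme.Modules.pullback q).map v) ↔ ∀ y : Y, q y ∉ CohB1.support (cokernel v) := by
  haveI : (Scheme.Modules.pullback q).IsLeftAdjoint :=
    (Scheme.Modules.pullbackPushforwardAdjunction q).isLeftAdjoint
  have hC : Coh.IsCoh (cokernel v) :=
    ⟨QCoh.isQuasicoherent_cokernel v, QCoh.isFiniteType_cokernel v hG⟩
  rw [Preadditive.epi_iff_isZero_cokernel,
    ← (PreservesCokernel.iso (Scheme.Modules.pullback q) v).isZero_iff, OX.isZero_iff]
  refine forall_congr' fun y => ?_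
  have h1 : q y ∈ CohB1.support (cokernel v) ↔
      y ∈ CohB1.support ((Scheme.Modules.pullback q).obj (cokernel v)) := by
    rw [QCoh.support_pullback q _ hC]; rfl
  rw [h1, ModuleCat.isZero_iff_subsingleton]
  exact not_not.symm

include hc in
/-- Surjectivity onto a module of finite type comes from a stage. -/
theorem exists_stage_epi [QuasiCompact f] [IsAffine c.pt.left] {F G : (PicF.XT f (D.obj i₀)).Modules}
    [F.IsQuasicoherent] [G.IsQuasicoherent] (hG : CohB1.IsFT G) (v : F ⟶ G)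
    (h : Epi ((Scheme.Modules.pullback (PicF.XTmap f (c.π.app i₀))).map v)) :
    ∃ (j : I) (φ : j ⟶ i₀), Epi ((Scheme.Modules.pullback (PicF.XTmap f (D.map φ))).map v) := by
  obtain ⟨hlim⟩ := isLimit_XTcone f D c hc
  have hC : IsClosed (CohB1.support (cokernel v)) := by
    haveI := QCoh.isQuasicoherent_cokernel v
    exact QCoh.isClosed_support _ (QCoh.isFiniteType_cokernel v hG)
  by_contra hne
  simp only [not_exists] at hne
  let Z : ∀ (j : I), (j ⟶ i₀) → Set ↥((XTfun f D).obj j) := fun j φ =>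
    PicF.XTmap f (D.map φ) ⁻¹' CohB1.support (cokernel v)
  haveI : ∀ {i j : I} (φ : i ⟶ j), IsAffineHom ((XTfun f D).map φ) := fun φ => isAffineHom_XTmap f (D.map φ)
  obtain ⟨x, hx⟩ := exists_mem_of_isClosed_of_nonempty' (XTfun f D) (XTcone f D c) hlim Z
    (fun j φ => hC.preimage (Scheme.Hom.continuous _))
    (fun j φ => by
      have := hne j φ
      rw [epi_pullback_iff_forall _ hG] at this
      push_neg at this
      exact this)
    (fun j φ => haveI := compactSpace_XT f (D.obj j); (hC.preimage (Scheme.Hom.continuous _)).isCompact)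
    (fun i i' hi'i hij y hy => by
      show PicF.XTmap f (D.map hij) (PicF.XTmap f (D.map hi'i) y) ∈ CohB1.support (cokernel v)
      rw [← Scheme.Hom.comp_apply, ← XTmap_comp, ← D.map_comp]
      exact hy)
  have h1 := hx i₀ (𝟙 i₀)
  refine (epi_pullback_iff_forall _ hG v).1 h x ?_
  have h2 : PicF.XTmap f (c.π.app i₀) ≫ PicF.XTmap f (D.map (𝟙 i₀)) = PicF.XTmap f (c.π.app i₀) := by
    rw [← XTmap_comp, c.w]
  show PicF.XTmap f (c.π.app i₀) x ∈ CohB1.support (cokernel v)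
  rw [← h2, Scheme.Hom.comp_apply]
  exact h1

include hc in
/-- The functions on the limit are the colimit of the functions on the stages. -/
theorem isStage_functions [IsAffine c.pt.left] :
    letI : ∀ j : Over i₀, Algebra Γ((D.obj i₀).left, ⊤) Γ((D.obj j.left).left, ⊤) :=
      fun j => (D.map j.hom).left.appTop.hom.toAlgebra
    letI : Algebra Γ((D.obj i₀).left, ⊤) Γ(c.pt.left, ⊤) := (c.π.app i₀).left.appTop.hom.toAlgebra
    ∃ g : ∀ j : Over i₀, Γ((D.obj j.left).left, ⊤) →ₐ[Γ((D.obj i₀).left, ⊤)] Γ(c.pt.left, ⊤),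
      RingStage.IsStage Γ((D.obj i₀).left, ⊤) (fun j : Over i₀ => Γ((D.obj j.left).left, ⊤))
        Γ(c.pt.left, ⊤) g ∧ ∀ (j : Over i₀) a, g j a = (c.π.app j.left).left.appTop a := by
  letI : ∀ j : Over i₀, Algebra Γ((D.obj i₀).left, ⊤) Γ((D.obj j.left).left, ⊤) :=
    fun j => (D.map j.hom).left.appTop.hom.toAlgebra
  letI : Algebra Γ((D.obj i₀).left, ⊤) Γ(c.pt.left, ⊤) := (c.π.app i₀).left.appTop.hom.toAlgebra
  let g : ∀ j : Over i₀, Γ((D.obj j.left).left, ⊤) →ₐ[Γ((D.obj i₀).left, ⊤)] Γ(c.pt.left, ⊤) := fun j =>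
    { (c.π.app j.left).left.appTop.hom with
      commutes' := fun a => by
        show (c.π.app j.left).left.appTop ((D.map j.hom).left.appTop a) = (c.π.app i₀).left.appTop a
        rw [← CommRingCat.comp_apply, ← Scheme.Hom.comp_appTop, ← Over.comp_left, c.w] }
  have key : ∀ {j k : Over i₀} (φ : k ⟶ j),
      ∃ ψ : Γ((D.obj j.left).left, ⊤) →ₐ[Γ((D.obj i₀).left, ⊤)] Γ((D.obj k.left).left, ⊤),
        (g k).comp ψ = g j ∧ ∀ a, ψ a = (D.map φ.left).left.appTop a := fun {j k} φ =>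
    ⟨{ (D.map φ.left).left.appTop.hom with
        commutes' := fun a => by
          show (D.map φ.left).left.appTop ((D.map j.hom).left.appTop a) = (D.map k.hom).left.appTop a
          rw [← CommRingCat.comp_apply, ← Scheme.Hom.comp_appTop, ← Over.comp_left, ← D.map_comp,
            Over.w φ] },
      AlgHom.ext fun a => by
        show (c.π.app k.left).left.appTop ((D.map φ.left).left.appTop a) = (c.π.app j.left).left.appTop a
        rw [← CommRingCat.comp_apply, ← Scheme.Hom.comp_appTop, ← Over.comp_left, c.w],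
      fun a => rfl⟩
  haveI : ∀ i, IsAffine ((D ⋙ Over.forget S).obj i) := fun i => inferInstanceAs (IsAffine (D.obj i).left)
  refine ⟨g, ⟨⟨Over.mk (𝟙 i₀)⟩, fun j j' => ?_, fun a => ?_, fun j x hx => ?_⟩, fun j a => rfl⟩
  · obtain ⟨ψ, hψ, -⟩ := key (IsCofiltered.minToLeft j j')
    obtain ⟨ψ', hψ', -⟩ := key (IsCofiltered.minToRight j j')
    exact ⟨_, ψ, ψ', hψ, hψ'⟩
  · obtain ⟨i, t, ht⟩ := exists_appTop_π_eq_of_isAffine_of_isLimit (D ⋙ Over.forget S) _ hc a
    refine ⟨Over.mk (IsCofiltered.minToRight i i₀), (D.map (IsCofiltered.minToLeft i i₀)).left.appTop t, ?_⟩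
    show (c.π.app _).left.appTop ((D.map (IsCofiltered.minToLeft i i₀)).left.appTop t) = a
    rw [← CommRingCat.comp_apply, ← Scheme.Hom.comp_appTop, ← Over.comp_left, c.w]
    exact ht
  · obtain ⟨k, ψ, hk⟩ := exists_appTop_map_eq_zero_of_isAffine_of_isLimit (D ⋙ Over.forget S) _ hc j.left x hx
    obtain ⟨ψ', hψ', he⟩ := key (Over.homMk ψ : Over.mk (ψ ≫ j.hom) ⟶ j)
    exact ⟨_, ψ', hψ', (he x).trans hk⟩

set_option maxHeartbeats 2000000 in
include hc in
/-- Vanishing on a module of finite type comes from a stage. -/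
theorem exists_stage_zero [QuasiCompact f] [IsAffine c.pt.left] {F G : (PicF.XT f (D.obj i₀)).Modules}
    [F.IsQuasicoherent] [G.IsQuasicoherent] (hF : CohB1.IsFT F) (v : F ⟶ G)
    (h : (Scheme.Modules.pullback (PicF.XTmap f (c.π.app i₀))).map v = 0) :
    ∃ (j : I) (φ : j ⟶ i₀), (Scheme.Modules.pullback (PicF.XTmap f (D.map φ))).map v = 0 := by
  classical
  haveI := compactSpace_XT f (D.obj i₀)
  obtain ⟨ι, _, W, hW, -, hcov⟩ := QCoh.exists_finite_affine_cover
    (U := (⊤ : (PicF.XT f (D.obj i₀)).Opens)) isCompact_univ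
  haveI : IsAffine (((Functor.const I).obj c.pt).obj i₀).left := inferInstanceAs (IsAffine c.pt.left)
  choose s hs using fun l => (FittSheaf.finite_sections hF ⟨W l, hW l⟩).fg_top
  obtain ⟨g, hst, hg⟩ := isStage_functions D c hc i₀
  letI : ∀ j : Over i₀, Algebra Γ((D.obj i₀).left, ⊤) Γ((D.obj j.left).left, ⊤) :=
    fun j => (D.map j.hom).left.appTop.hom.toAlgebra
  letI : Algebra Γ((D.obj i₀).left, ⊤) Γ(c.pt.left, ⊤) := (c.π.app i₀).left.appTop.hom.toAlgebra
  -- at each open a stage where the images of the generators vanish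
  have hloc : ∀ l : ι, ∃ j : Over i₀,
      letI := baseModule (PicF.XTproj f (D.obj i₀)) G (W l)
      ∀ m : s l, (1 : Γ((D.obj j.left).left, ⊤)) ⊗ₜ[Γ((D.obj i₀).left, ⊤)] v.app (W l) (m : Γ(F, W l)) = 0 := by
    intro l
    letI := baseModule (PicF.XTproj f (D.obj i₀)) G (W l)
    obtain ⟨j, ψ, -, hj⟩ := hst.vanish_tmul_finite Γ(G, W l) (Over.mk (𝟙 i₀))
      (fun m : s l => (1 : Γ((D.obj i₀).left, ⊤)) ⊗ₜ v.app (W l) (m : Γ(F, W l))) fun m => by
        show (g (Over.mk (𝟙 i₀))) 1 ⊗ₜ[Γ((D.obj i₀).left, ⊤)] v.app (W l) (m : Γ(F, W l)) = 0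
        rw [map_one]
        refine (pullSec_eq_zero_iff (isPullback_XTmap f (c.π.app i₀)) (hW l) G _).1 ?_
        refine (QCoh.pullSec_natural _ v _ (m : Γ(F, W l))).symm.trans ?_
        rw [h]
        rfl
    refine ⟨j, fun m => ?_⟩
    have := hj m
    simp only [LinearMap.rTensor_tmul, AlgHom.toLinearMap_apply] at this
    rw [← map_one ψ]
    exact this
  choose j hj using hloc
  obtain ⟨k, -, φ, -⟩ := IsCofiltered.wideCospan (I := ι) (i := Over.mk (𝟙 i₀))
    (fun l => (Over.homMk (j l).hom : j l ⟶ Over.mk (𝟙 i₀)))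
  refine ⟨k.left, k.hom, ?_⟩
  have sq := isPullback_XTmap f (D.map k.hom)
  haveI := FittSheaf.isQuasicoherent_pullback (PicF.XTmap f (D.map k.hom)) F
  refine eq_zero_of_cover _ (fun l => sqOpen (PicF.XTmap f (D.map k.hom)) (PicF.XTproj f (D.obj k.left)) (W l))
    (fun l => isAffineOpen_sqOpen sq (hW l)) (fun y => ?_) fun l t => ?_
  · obtain ⟨l, hl⟩ := TopologicalSpace.Opens.mem_iSup.1 (hcov (TopologicalSpace.Opens.mem_top (PicF.XTmap f (D.map k.hom) y)))
    exact ⟨l, hl, trivial⟩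
  refine app_pullback_eq_zero _ v (hW l) (isAffineOpen_sqOpen sq (hW l)) inf_le_left
    (fun m : s l => (m : Γ(F, W l))) ?_ (fun m => ?_) t
  · rw [show Set.range (fun m : s l => (m : Γ(F, W l))) = (s l : Set _) from Subtype.range_coe]
    exact hs l
  refine (pullSec_eq_zero_iff sq (hW l) G _).2 ?_
  letI := baseModule (PicF.XTproj f (D.obj i₀)) G (W l)
  let tr : Γ((D.obj (j l).left).left, ⊤) →ₐ[Γ((D.obj i₀).left, ⊤)] Γ((D.obj k.left).left, ⊤) :=
    { (D.map (φ l).left).left.appTop.hom with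
      commutes' := fun a => by
        show (D.map (φ l).left).left.appTop ((D.map (j l).hom).left.appTop a) = (D.map k.hom).left.appTop a
        rw [← CommRingCat.comp_apply, ← Scheme.Hom.comp_appTop, ← Over.comp_left, ← D.map_comp, Over.w (φ l)] }
  have := congrArg (tr.toLinearMap.rTensor Γ(G, W l)) (hj l m)
  rw [LinearMap.rTensor_tmul, AlgHom.toLinearMap_apply, map_one, map_zero] at this
  exact this

end Core

end GrothLib.FunFlat6
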