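import Groth.Agent.Lib.FunFlat6.Vanish
import Groth.Agent.Lib.FlatLimit.StageGlobal
import Groth.Agent.Lib.FittSheaf.PullbackFP
import Groth.Agent.Lib.QCoh.Extension
import Groth.Agent.Lib.FlatFP.Sheaf

/-!
# Flattening functors are limit preserving
-/

set_option autoImplicit false
set_option linter.style.haveILetI false

universe u

open CategoryTheory CategoryTheory.Limits AlgebraicGeometry Opposite

namespace GrothLib.FunFlat6

/-- Inverse images of modules of finite type are of finite type. -/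
theorem isFT_pullback {Y Z : Scheme.{u}} (q : Y ⟶ Z) (F : Z.Modules) [F.IsQuasicoherent]
    (hF : CohB1.IsFT F) : CohB1.IsFT ((Scheme.Modules.pullback q).obj F) := by
  haveI := FittSheaf.isQuasicoherent_pullback q F
  exact (QCoh.isFiniteType_iff_moduleFinite _).2 fun V hV => FittSheaf.moduleFinite_pullback q F hF hV

/-- The kernel of a surjection from a module of finite type onto a finitely presented one is of finite type. -/
theorem isFT_kernel {Y : Scheme.{u}} {F G : Y.Modules} [F.IsQuasicoherent] [G.IsQuasicoherent]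
    (hF : CohB1.IsFT F) (hG : CohB1.IsFP G) (v : F ⟶ G) [Epi v] : CohB1.IsFT (kernel v) := by
  have hS : (ShortComplex.mk (kernel.ι v) v (kernel.condition v)).ShortExact :=
    { exact := ShortComplex.exact_kernel v }
  haveI := QCoh.isQuasicoherent_kernel v
  refine (QCoh.isFiniteType_iff_moduleFinite _).2 fun U hU => ?_
  haveI := FittSheaf.finite_sections hF ⟨U, hU⟩
  haveI := FlatFP.finitePresentation_sections G hG hU
  haveI : (ShortComplex.mk (kernel.ι v) v (kernel.condition v)).X₁.IsQuasicoherent :=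
    inferInstanceAs (kernel v).IsQuasicoherent
  have hker := Module.FinitePresentation.fg_ker (QCoh.appLinear v U)
    (QCoh.app_surjective_of_isAffineOpen hS hU)
  have hr : LinearMap.range (QCoh.appLinear (kernel.ι v) U) = LinearMap.ker (QCoh.appLinear v U) := by
    refine le_antisymm ?_ fun b hb => QCoh.app_exact hS U b hb
    rintro _ ⟨a, rfl⟩
    exact QCoh.app_comp_zero (S := ShortComplex.mk (kernel.ι v) v (kernel.condition v)) U a
  rw [← hr, ← Module.Finite.iff_fg] at hker
  exact Module.Finite.equiv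
    (LinearEquiv.ofInjective (QCoh.appLinear (kernel.ι v) U) (QCoh.app_injective hS U)).symm

variable {S X : Scheme.{u}} (f : X ⟶ S) {F G : X.Modules} (u : F ⟶ G)

theorem epi_stable {T T₀ : Over S} (g : T ⟶ T₀)
    (h : Epi ((Scheme.Modules.pullback (pullback.fst f T₀.hom)).map u)) :
    Epi ((Scheme.Modules.pullback (pullback.fst f T.hom)).map u) := by
  haveI : (Scheme.Modules.pullback (PicF.XTmap f g)).IsLeftAdjoint :=
    (Scheme.Modules.pullbackPushforwardAdjunction _).isLeftAdjoint
  exact (epi_map_iff f g u).2 inferInstance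

theorem zero_stable {T T₀ : Over S} (g : T ⟶ T₀)
    (h : (Scheme.Modules.pullback (pullback.fst f T₀.hom)).map u = 0) :
    (Scheme.Modules.pullback (pullback.fst f T.hom)).map u = 0 := by
  haveI : (Scheme.Modules.pullback (PicF.XTmap f g)).IsLeftAdjoint :=
    (Scheme.Modules.pullbackPushforwardAdjunction _).isLeftAdjoint
  refine (zero_map_iff f g u).2 ?_
  rw [h]
  exact (Scheme.Modules.pullback (PicF.XTmap f g)).map_zero _ _

theorem iso_map_iff {T T₀ : Over S} (g : T ⟶ T₀) :
    IsIso ((Scheme.Modules.pullback (pullback.fst f T.hom)).map u) ↔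
      IsIso ((Scheme.Modules.pullback (PicF.XTmap f g)).map
        ((Scheme.Modules.pullback (pullback.fst f T₀.hom)).map u)) :=
  ((MorphismProperty.isomorphisms _).arrow_mk_iso_iff
    (((Functor.mapArrowFunctor _ _).mapIso (pullComp f g)).app (Arrow.mk u))).symm

section

variable [QuasiCompact f] [F.IsQuasicoherent] [G.IsQuasicoherent]

theorem exists_epi_stage (hG : CohB1.IsFT G) {I : Type u} [SmallCategory I] [IsCofiltered I]
    (D : I ⥤ Over S) (c : Cone D) (hc : IsLimit ((Over.forget S).mapCone c))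
    (hD : ∀ i, IsAffine (D.obj i).left) (hT : IsAffine c.pt.left)
    (h : Epi ((Scheme.Modules.pullback (pullback.fst f c.pt.hom)).map u)) :
    ∃ j : I, Epi ((Scheme.Modules.pullback (pullback.fst f (D.obj j).hom)).map u) := by
  obtain ⟨i₀⟩ : Nonempty I := IsCofiltered.nonempty
  haveI := FittSheaf.isQuasicoherent_pullback (pullback.fst f (D.obj i₀).hom) F
  haveI := FittSheaf.isQuasicoherent_pullback (pullback.fst f (D.obj i₀).hom) G
  obtain ⟨j, φ, hj⟩ := exists_stage_epi f D c hc i₀ (isFT_pullback _ G hG) _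
    ((epi_map_iff f (c.π.app i₀) u).1 h)
  exact ⟨j, (epi_map_iff f (D.map φ) u).2 hj⟩

theorem isLimitPreserving_surj (hG : CohB1.IsFT G) :
    AlgSp.IsLimitPreserving
      (FlatFun.genPSp S fun T => Epi ((Scheme.Modules.pullback (pullback.fst f T.hom)).map u)) :=
  isLimitPreserving_genPSp _ (fun _ _ g h => epi_stable f u g h)
    fun _ _ _ D c hc hD hT h => exists_epi_stage f u hG D c hc hD hT h

theorem isLimitPreserving_zero (hF : CohB1.IsFT F) :
    AlgSp.IsLimitPreserving
      (FlatFun.genPSp S fun T => (Scheme.Modules.pullback (pullback.fst f T.hom)).map u = 0) := by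
  refine isLimitPreserving_genPSp _ (fun _ _ g h => zero_stable f u g h) fun I _ _ D c hc hD hT h => ?_
  obtain ⟨i₀⟩ : Nonempty I := IsCofiltered.nonempty
  haveI := FittSheaf.isQuasicoherent_pullback (pullback.fst f (D.obj i₀).hom) F
  haveI := FittSheaf.isQuasicoherent_pullback (pullback.fst f (D.obj i₀).hom) G
  obtain ⟨j, φ, hj⟩ := exists_stage_zero f D c hc i₀ (isFT_pullback _ F hF) _
    ((zero_map_iff f (c.π.app i₀) u).1 h)
  exact ⟨j, (zero_map_iff f (D.map φ) u).2 hj⟩

theorem isLimitPreserving_iso (hF : CohB1.IsFT F) (hG : CohB1.IsFP G) :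
    AlgSp.IsLimitPreserving
      (FlatFun.genPSp S fun T => IsIso ((Scheme.Modules.pullback (pullback.fst f T.hom)).map u)) := by
  refine isLimitPreserving_genPSp _ (fun T T₀ g h => ?_) fun I _ _ D c hc hD hT h => ?_
  · haveI := h
    exact (iso_map_iff f u g).2 inferInstance
  have hGft : CohB1.IsFT G := (QCoh.isFiniteType_iff_moduleFinite _).2 fun V hV =>
    haveI := FlatFP.finitePresentation_sections G hG hV
    inferInstance
  haveI := h
  obtain ⟨i, hi⟩ := exists_epi_stage f u hGft D c hc hD hT inferInstance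
  haveI := FittSheaf.isQuasicoherent_pullback (pullback.fst f (D.obj i).hom) F
  haveI := FittSheaf.isQuasicoherent_pullback (pullback.fst f (D.obj i).hom) G
  let v := (Scheme.Modules.pullback (pullback.fst f (D.obj i).hom)).map u
  haveI : Epi v := hi
  haveI := QCoh.isQuasicoherent_kernel v
  have hK : CohB1.IsFT (kernel v) :=
    isFT_kernel (isFT_pullback _ F hF) (FittSheaf.isFP_pullback _ G hG) v
  haveI : IsIso ((Scheme.Modules.pullback (PicF.XTmap f (c.π.app i))).map v) :=
    (iso_map_iff f u (c.π.app i)).1 h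
  have h0 : (Scheme.Modules.pullback (PicF.XTmap f (c.π.app i))).map (kernel.ι v) = 0 := by
    haveI : (Scheme.Modules.pullback (PicF.XTmap f (c.π.app i))).IsLeftAdjoint :=
      (Scheme.Modules.pullbackPushforwardAdjunction _).isLeftAdjoint
    rw [← cancel_mono ((Scheme.Modules.pullback (PicF.XTmap f (c.π.app i))).map v), zero_comp,
      ← Functor.map_comp, kernel.condition, Functor.map_zero]
  obtain ⟨j, φ, hj⟩ := exists_stage_zero f D c hc i hK (kernel.ι v) h0
  refine ⟨j, (iso_map_iff f u (D.map φ)).2 ?_⟩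
  haveI : (Scheme.Modules.pullback (PicF.XTmap f (D.map φ))).IsLeftAdjoint :=
    (Scheme.Modules.pullbackPushforwardAdjunction _).isLeftAdjoint
  let Sv := ShortComplex.mk (kernel.ι v) v (kernel.condition v)
  have hex : Sv.Exact := ShortComplex.exact_kernel v
  haveI : Epi Sv.g := inferInstanceAs (Epi v)
  have hex' : (Sv.map (Scheme.Modules.pullback (PicF.XTmap f (D.map φ)))).Exact :=
    ShortComplex.exact_of_g_is_cokernel _ (CokernelCofork.mapIsColimit _ hex.gIsCokernel _)
  haveI : Mono ((Scheme.Modules.pullback (PicF.XTmap f (D.map φ))).map v) := hex'.mono_g hj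
  exact isIso_of_mono_of_epi _

end

set_option maxHeartbeats 1000000 in
theorem isLimitPreserving_flat [QuasiCompact f] [LocallyOfFinitePresentation f] (F : X.Modules)
    [F.IsQuasicoherent] (hF : CohB1.IsFP F) :
    AlgSp.IsLimitPreserving
      (FlatFun.genPSp S fun T => FlatMod.IsFlatOver (PicF.XTproj f T) (FGA.ET f F T)) := by
  refine isLimitPreserving_genPSp _ (fun T T₀ g h y => flatAt_baseChange f F g y (h _))
    fun I _ _ D c hc hD hT h => ?_
  obtain ⟨i₀⟩ : Nonempty I := IsCofiltered.nonempty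
  haveI : ∀ i, IsAffine ((D ⋙ Over.forget S).obj i) := fun i => inferInstanceAs (IsAffine (D.obj i).left)
  haveI : IsAffine ((Over.forget S).mapCone c).pt := hT
  haveI (i j : I) (φ : i ⟶ j) : IsAffineHom ((D ⋙ Over.forget S).map φ) := inferInstance
  haveI := compactSpace_XT f (D.obj i₀)
  haveI : CompactSpace ((D ⋙ Over.forget S).obj i₀) := inferInstanceAs (CompactSpace (D.obj i₀).left)
  haveI : LocallyOfFinitePresentation (PicF.XTproj f (D.obj i₀)) :=
    MorphismProperty.pullback_snd _ _ inferInstance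
  have hq := FittSheaf.isQuasicoherent_pullback (pullback.fst f (D.obj i₀).hom) F
  haveI : (FGA.ET f F (D.obj i₀)).IsQuasicoherent := hq
  have hFP : CohB1.IsFP (FGA.ET f F (D.obj i₀)) := FittSheaf.isFP_pullback _ F hF
  let f₀ : PicF.XT f (D.obj i₀) ⟶ (D ⋙ Over.forget S).obj i₀ := PicF.XTproj f (D.obj i₀)
  haveI : LocallyOfFinitePresentation f₀ := inferInstanceAs (LocallyOfFinitePresentation (PicF.XTproj f (D.obj i₀)))
  have hY : IsPullback (((Over.forget S).mapCone c).π.app i₀) (𝟙 _) (𝟙 _)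
      (((Over.forget S).mapCone c).π.app i₀) := IsPullback.id_vert _
  have hX : IsPullback (PicF.XTmap f (c.π.app i₀)) (PicF.XTproj f c.pt) f₀
      (((Over.forget S).mapCone c).π.app i₀) := isPullback_XTmap f (c.π.app i₀)
  obtain ⟨k, hk⟩ := FlatLimit.exists_stage_flatOver (D ⋙ Over.forget S) hc f₀ (𝟙 _) hY hX
    (FGA.ET f F (D.obj i₀)) hFP
    (fun y => (FlatFP.isFlatOverAt_congr _ (FGA.ETiso f F (c.π.app i₀)) y).2 (h y))
  refine ⟨k.left, fun y => ?_⟩
  let Z := pullback (f₀ ≫ 𝟙 _) ((D ⋙ Over.forget S).map k.hom)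
  have hZ : IsPullback (pullback.fst (f₀ ≫ 𝟙 _) ((D ⋙ Over.forget S).map k.hom))
      (pullback.snd (f₀ ≫ 𝟙 _) ((D ⋙ Over.forget S).map k.hom)) f₀ ((D ⋙ Over.forget S).map k.hom) :=
    (IsPullback.of_hasPullback _ _).of_iso (Iso.refl _) (Iso.refl _) (Iso.refl _) (Iso.refl _)
      (by simp) (by simp) (by simp) (by simp)
  have hT' : IsPullback (PicF.XTmap f (D.map k.hom)) (PicF.XTproj f (D.obj k.left)) f₀
      ((D ⋙ Over.forget S).map k.hom) := isPullback_XTmap f (D.map k.hom)
  let e := hZ.isoIsPullback _ _ hT'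
  let mn := (LimDesc.mapNat (D ⋙ Over.forget S) i₀ (𝟙 _) (f₀ ≫ 𝟙 _) f₀ rfl).app k
  let pj : (LimDesc.diag (D ⋙ Over.forget S) i₀ (𝟙 _)).obj k ⟶ (D.obj k.left).left :=
    pullback.snd (𝟙 ((D ⋙ Over.forget S).obj i₀)) ((D ⋙ Over.forget S).map k.hom)
  have he : e.hom ≫ PicF.XTproj f (D.obj k.left) = mn ≫ pj :=
    (IsPullback.isoIsPullback_hom_snd _ _ hZ hT').trans (pullback.lift_snd _ _ _).symm
  haveI hpj : IsIso pj := (IsPullback.of_hasPullback (𝟙 _) ((D ⋙ Over.forget S).map k.hom)).isIso_snd_of_isIso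
  haveI : Flat pj := inferInstance
  have sq : IsPullback e.hom mn (PicF.XTproj f (D.obj k.left)) pj :=
    IsPullback.of_horiz_isIso ⟨he⟩
  obtain ⟨z, rfl⟩ : ∃ z, e.hom z = y := ⟨e.inv y, by rw [← Scheme.Hom.comp_apply, e.inv_hom_id]; rfl⟩
  refine isFlatOverAt_descend sq _ z (Flat.stalkMap _ _) ?_
  have e1 : (Scheme.Modules.pullback e.hom).obj (FGA.ET f F (D.obj k.left)) ≅
      (Scheme.Modules.pullback (pullback.fst (f₀ ≫ 𝟙 _) ((D ⋙ Over.forget S).map k.hom))).obj
        (FGA.ET f F (D.obj i₀)) :=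
    (Scheme.Modules.pullback e.hom).mapIso (FGA.ETiso f F (D.map k.hom)).symm ≪≫
      (Scheme.Modules.pullbackComp e.hom (PicF.XTmap f (D.map k.hom))).app _ ≪≫
        (Scheme.Modules.pullbackCongr (IsPullback.isoIsPullback_hom_fst _ _ hZ hT')).app _
  exact (FlatFP.isFlatOverAt_congr _ e1 z).2 (hk z)

end GrothLib.FunFlat6
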