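import Groth.Agent.Lib.FunFlat6.FlatDim
import Groth.Agent.Lib.FunFlat6.LimitFunctors
import Groth.Agent.Lib.Equidim6.CondTOpen
import Groth.Agent.Lib.EtFibre.Basic
import Groth.Agent.Lib.RedSub.Basic

/-!
# Flatness in dimensions at least `n` descends along limits
-/

set_option autoImplicit false
set_option linter.style.haveILetI false

universe u

open CategoryTheory CategoryTheory.Limits AlgebraicGeometry Opposite TopologicalSpace

namespace GrothLib.FunFlat6

section Trdeg

variable {X S Z : Scheme.{u}}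

/-- A closed immersion does not change transcendence degrees of residue fields. -/
theorem resTrdeg_closedImmersion (ι : Z ⟶ X) [IsClosedImmersion ι] (f : X ⟶ S) (z : Z) :
    Dual3.resTrdeg (ι ≫ f) z = Dual3.resTrdeg f (ι z) := by
  refine (EtFibre.trdeg_eq_of_algebraic (f.residueFieldMap (ι z)).hom ((ι ≫ f).residueFieldMap z).hom
    (RingHom.id _) (ι.residueFieldMap z).hom ?_ (RingHom.Finite.id _)
    (RingHom.Finite.of_surjective _ ?_)).symm
  · refine (RingHom.comp_id _).trans ?_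
    exact congrArg CommRingCat.Hom.hom (Scheme.residueFieldMap_comp ι f z)
  · intro a
    obtain ⟨b, rfl⟩ := IsLocalRing.residue_surjective a
    obtain ⟨c, rfl⟩ := ι.stalkMap_surjective z b
    exact ⟨IsLocalRing.residue _ c, rfl⟩

/-- A generization in the fibre has at least as large transcendence degree. -/
theorem resTrdeg_le_of_specializes (f : X ⟶ S) [LocallyOfFiniteType f] {x y : X} (h : y ⤳ x) (hf : f y = f x) :
    Dual3.resTrdeg f x ≤ Dual3.resTrdeg f y := by
  obtain ⟨n, hn, hdn⟩ := Altitude.exists_trdeg_eq_dim_closure f x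
  obtain ⟨m, hm, hdm⟩ := Altitude.exists_trdeg_eq_dim_closure f y
  refine hn.le.trans (le_of_le_of_eq ?_ hm.symm)
  rw [Nat.cast_le]
  have key : ∀ (s : S) (b : f.fiber s), f.fiberι s b = y → f y = s →
      (topologicalKrullDim (closure {b} : Set (f.fiber s)) = (m : WithBot ℕ∞)) := by
    rintro s b hb rfl
    rw [show b = f.asFiber y from (f.fiberι (f y)).isEmbedding.injective (hb.trans (f.fiberι_asFiber y).symm)]
    exact hdm
  obtain ⟨b, hb⟩ : ∃ b, f.fiberι (f x) b = y := (f.range_fiberι (f x)).ge hf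
  have hspec : b ⤳ f.asFiber x := (f.fiberι (f x)).isEmbedding.isInducing.specializes_iff.1 (by
    rw [hb, f.fiberι_asFiber]; exact h)
  have hsub : (closure {f.asFiber x} : Set (f.fiber (f x))) ⊆ closure {b} :=
    closure_minimal (Set.singleton_subset_iff.2 (specializes_iff_mem_closure.1 hspec)) isClosed_closure
  have := Topology.IsInducing.topologicalKrullDim_le (Topology.IsEmbedding.inclusion hsub).isInducing
  rw [hdn, key _ b hb hf] at this
  exact_mod_cast this

/-- A closed set containing the points of large transcendence degree of a closed set, in whose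
fibres it always meets such a point. -/
theorem exists_closed_of_large (f : X ⟶ S) [LocallyOfFiniteType f] (A : Set X) (hA : IsClosed A) (n : ℕ) :
    ∃ C : Set X, IsClosed C ∧ (∀ y ∈ A, (n : Cardinal) ≤ Dual3.resTrdeg f y → y ∈ C) ∧
      ∀ x ∈ C, ∃ y ∈ A, (n : Cardinal) ≤ Dual3.resTrdeg f y ∧ f y = f x ∧ y ⤳ x := by
  let ι := (Scheme.IdealSheafData.vanishingIdeal ⟨A, hA⟩).subschemeι
  have hrange : Set.range ι = A := RedSub.range_subschemeι_vanishingIdeal ⟨A, hA⟩
  refine ⟨ι '' {w | (n : WithBot ℕ∞) ≤ FlatMor.fibreDimAt (ι ≫ f) w}, ?_, ?_, ?_⟩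
  · refine ι.isClosedEmbedding.isClosedMap _ ?_
    cases n with
    | zero =>
      convert isClosed_univ
      exact Set.eq_univ_of_forall fun w => by
        show ((0 : ℕ) : WithBot ℕ∞) ≤ _
        rw [Nat.cast_zero]
        exact Equidim6.nonneg_fibreDimAt' _ _
    | succ m =>
      convert (FibreDimAt6.isOpen_fibreDimAt_le (ι ≫ f) m).isClosed_compl
      ext w
      obtain ⟨w₀, hw₀, -, hmax, hd⟩ := Equidim6.exists_fibre_maximal (ι ≫ f) w
      obtain ⟨d, -, hd'⟩ := Equidim6.fibreDimAt_eq_resTrdeg (ι ≫ f) w₀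
        (fun z hz hs => hmax z (hz.trans hw₀) hs)
      simp only [Set.mem_ofPred_eq, Set.mem_compl_iff, hd, hd', Nat.cast_le]
      omega
  · intro y hy hn
    obtain ⟨w, rfl⟩ := hrange.ge hy
    refine ⟨w, ?_, rfl⟩
    obtain ⟨w₀, hw₀, hspec, hmax, hd⟩ := Equidim6.exists_fibre_maximal (ι ≫ f) w
    obtain ⟨d, hd₁, hd₂⟩ := Equidim6.fibreDimAt_eq_resTrdeg (ι ≫ f) w₀
      fun z hz hs => hmax z (hz.trans hw₀) hs
    show (n : WithBot ℕ∞) ≤ _
    rw [hd, hd₂, Nat.cast_le]
    rw [← Nat.cast_le (α := Cardinal.{u}), ← hd₁]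
    rw [← resTrdeg_closedImmersion] at hn
    exact hn.trans (resTrdeg_le_of_specializes (ι ≫ f) hspec hw₀)
  · rintro _ ⟨w, hw, rfl⟩
    obtain ⟨w₀, hw₀, hspec, hmax, hd⟩ := Equidim6.exists_fibre_maximal (ι ≫ f) w
    obtain ⟨d, hd₁, hd₂⟩ := Equidim6.fibreDimAt_eq_resTrdeg (ι ≫ f) w₀
      fun z hz hs => hmax z (hz.trans hw₀) hs
    refine ⟨ι w₀, hrange.le ⟨w₀, rfl⟩, ?_, hw₀, hspec.map ι.continuous⟩
    rw [← resTrdeg_closedImmersion, hd₁, Nat.cast_le]
    rw [Set.mem_ofPred_eq, hd, hd₂, Nat.cast_le] at hw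
    exact hw

end Trdeg

section Limit

variable {S X : Scheme.{u}} (f : X ⟶ S) (F : X.Modules) [F.IsQuasicoherent]
  {I : Type u} [SmallCategory I] [IsCofiltered I] (D : I ⥤ Over S) (c : Cone D)

set_option maxHeartbeats 1000000 in
/-- Flatness at a point of the limit comes from a stage. -/
theorem exists_stage_flatAt' [LocallyOfFinitePresentation f] (hF : CohB1.IsFP F)
    (hc : IsLimit ((Over.forget S).mapCone c)) [hD : ∀ i, IsAffine (D.obj i).left] [hT : IsAffine c.pt.left]
    (z : PicF.XT f c.pt) (h : FlatMod.IsFlatOverAt (PicF.XTproj f c.pt) (FGA.ET f F c.pt) z) :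
    ∃ k : I, FlatMod.IsFlatOverAt (PicF.XTproj f (D.obj k)) (FGA.ET f F (D.obj k))
      (PicF.XTmap f (c.π.app k) z) := by
  obtain ⟨i₀⟩ : Nonempty I := IsCofiltered.nonempty
  haveI : ∀ i, IsAffine ((D ⋙ Over.forget S).obj i) := fun i => inferInstanceAs (IsAffine (D.obj i).left)
  haveI : IsAffine ((Over.forget S).mapCone c).pt := hT
  haveI (i j : I) (φ : i ⟶ j) : IsAffineHom ((D ⋙ Over.forget S).map φ) := inferInstance
  let f₀ : PicF.XT f (D.obj i₀) ⟶ (D ⋙ Over.forget S).obj i₀ := PicF.XTproj f (D.obj i₀)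
  haveI : LocallyOfFinitePresentation f₀ :=
    inferInstanceAs (LocallyOfFinitePresentation (pullback.snd f (D.obj i₀).hom))
  haveI : (FGA.ET f F (D.obj i₀)).IsQuasicoherent :=
    FittSheaf.isQuasicoherent_pullback (pullback.fst f (D.obj i₀).hom) F
  have hFP : CohB1.IsFP (FGA.ET f F (D.obj i₀)) := FittSheaf.isFP_pullback _ F hF
  have hY : IsPullback (((Over.forget S).mapCone c).π.app i₀) (𝟙 _) (𝟙 _)
      (((Over.forget S).mapCone c).π.app i₀) := IsPullback.id_vert _
  have hX : IsPullback (PicF.XTmap f (c.π.app i₀)) (PicF.XTproj f c.pt) f₀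
      (((Over.forget S).mapCone c).π.app i₀) := isPullback_XTmap f (c.π.app i₀)
  obtain ⟨k, hk⟩ := FlatLimit.exists_stage_flatAt (D ⋙ Over.forget S) hc f₀ (𝟙 _) hY hX
    (FGA.ET f F (D.obj i₀)) hFP z ((FlatFP.isFlatOverAt_congr _ (FGA.ETiso f F (c.π.app i₀)) z).2 h)
  refine ⟨k.left, ?_⟩
  have hZ : IsPullback (pullback.fst (f₀ ≫ 𝟙 _) ((D ⋙ Over.forget S).map k.hom))
      (pullback.snd (f₀ ≫ 𝟙 _) ((D ⋙ Over.forget S).map k.hom)) f₀ ((D ⋙ Over.forget S).map k.hom) :=
    (IsPullback.of_hasPullback _ _).of_iso (Iso.refl _) (Iso.refl _) (Iso.refl _) (Iso.refl _)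
      (by simp) (by simp) (by simp) (by simp)
  have hT' : IsPullback (PicF.XTmap f (D.map k.hom)) (PicF.XTproj f (D.obj k.left)) f₀
      ((D ⋙ Over.forget S).map k.hom) := isPullback_XTmap f (D.map k.hom)
  let e := hZ.isoIsPullback _ _ hT'
  let mn := (LimDesc.mapNat (D ⋙ Over.forget S) i₀ (𝟙 _) (f₀ ≫ 𝟙 _) f₀ rfl).app k
  let pj : (LimDesc.diag (D ⋙ Over.forget S) i₀ (𝟙 _)).obj k ⟶ (D.obj k.left).left :=
    pullback.snd (𝟙 ((D ⋙ Over.forget S).obj i₀)) ((D ⋙ Over.forget S).map k.hom)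
  haveI hpj : IsIso pj := (IsPullback.of_hasPullback (𝟙 _) ((D ⋙ Over.forget S).map k.hom)).isIso_snd_of_isIso
  have sq : IsPullback e.hom mn (PicF.XTproj f (D.obj k.left)) pj :=
    IsPullback.of_horiz_isIso ⟨(IsPullback.isoIsPullback_hom_snd _ _ hZ hT').trans (pullback.lift_snd _ _ _).symm⟩
  let cE := LimDesc.cone (D ⋙ Over.forget S) i₀ (f₀ ≫ 𝟙 _) (hX.paste_vert hY)
  have hpt : e.hom (cE.π.app k z) = PicF.XTmap f (c.π.app k.left) z := by
    have heq : cE.π.app k ≫ e.hom = PicF.XTmap f (c.π.app k.left) := by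
      refine hT'.hom_ext ?_ ?_
      · refine (Category.assoc _ _ _).trans ?_
        refine (congrArg (cE.π.app k ≫ ·) (IsPullback.isoIsPullback_hom_fst _ _ hZ hT')).trans ?_
        refine (pullback.lift_fst _ _ _).trans ?_
        exact ((congrArg (PicF.XTmap f) (c.w k.hom)).symm.trans (XTmap_comp f _ _))
      · refine (Category.assoc _ _ _).trans ?_
        refine (congrArg (cE.π.app k ≫ ·) (IsPullback.isoIsPullback_hom_snd _ _ hZ hT')).trans ?_
        refine (pullback.lift_snd _ _ _).trans ?_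
        exact (congrArg (· ≫ _) (Category.comp_id _)).trans (isPullback_XTmap f (c.π.app k.left)).w.symm
    rw [← heq]
    rfl
  rw [← hpt]
  refine isFlatOverAt_descend sq _ _ (Flat.stalkMap _ _) ?_
  have e1 : (Scheme.Modules.pullback e.hom).obj (FGA.ET f F (D.obj k.left)) ≅
      (Scheme.Modules.pullback (pullback.fst (f₀ ≫ 𝟙 _) ((D ⋙ Over.forget S).map k.hom))).obj
        (FGA.ET f F (D.obj i₀)) :=
    (Scheme.Modules.pullback e.hom).mapIso (FGA.ETiso f F (D.map k.hom)).symm ≪≫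
      (Scheme.Modules.pullbackComp e.hom (PicF.XTmap f (D.map k.hom))).app _ ≪≫
        (Scheme.Modules.pullbackCongr (IsPullback.isoIsPullback_hom_fst _ _ hZ hT')).app _
  exact (FlatFP.isFlatOverAt_congr _ e1 _).2 hk

set_option maxHeartbeats 1000000 in
theorem exists_stage_flatDimGE [QuasiCompact f] [LocallyOfFinitePresentation f] (hF : CohB1.IsFP F) (n : ℕ)
    (hc : IsLimit ((Over.forget S).mapCone c)) (hD : ∀ i, IsAffine (D.obj i).left) (hT : IsAffine c.pt.left)
    (h : FlatDimGE f F n c.pt) : ∃ i, FlatDimGE f F n (D.obj i) := by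
  classical
  by_contra hne
  rw [not_exists] at hne
  let NF : ∀ T : Over S, Set (PicF.XT f T) := fun T =>
    {x | ¬ FlatMod.IsFlatOverAt (PicF.XTproj f T) (FGA.ET f F T) x}
  have hNF : ∀ T : Over S, IsClosed (NF T) := fun T => by
    haveI : LocallyOfFinitePresentation (PicF.XTproj f T) :=
      inferInstanceAs (LocallyOfFinitePresentation (pullback.snd f T.hom))
    exact (FlatLimit.isOpen_flatLocus_pullback (PicF.XTproj f T) (pullback.fst f T.hom) F hF).isClosed_compl
  have hNFmap : ∀ {T T' : Over S} (g : T' ⟶ T) (y : PicF.XT f T'), y ∈ NF T' → PicF.XTmap f g y ∈ NF T :=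
    fun g y hy hflat => hy (flatAt_baseChange f F g y hflat)
  haveI : ∀ T : Over S, LocallyOfFiniteType (PicF.XTproj f T) := fun T =>
    inferInstanceAs (LocallyOfFiniteType (pullback.snd f T.hom))
  choose C hCc hCE hEC using fun i => exists_closed_of_large (PicF.XTproj f (D.obj i)) _ (hNF (D.obj i)) n
  obtain ⟨hlim⟩ := isLimit_XTcone f D c hc
  haveI : ∀ {i j : I} (φ : i ⟶ j), IsAffineHom ((XTfun f D).map φ) := fun φ => isAffineHom_XTmap f (D.map φ)
  obtain ⟨x, hx⟩ := exists_mem_of_isClosed_of_nonempty (XTfun f D) (XTcone f D c) hlim C hCc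
    (fun i => by
      obtain ⟨y, hy⟩ := not_forall.1 (hne i)
      rw [Classical.not_imp] at hy
      exact ⟨y, hCE i y hy.1 (not_lt.1 hy.2)⟩)
    (fun i => haveI := compactSpace_XT f (D.obj i); (hCc i).isCompact)
    (fun {i i'} φ y hy => by
      obtain ⟨y₀, hy₀, hn, -, hsp⟩ := hEC i y hy
      refine (hsp.map (PicF.XTmap f (D.map φ)).continuous).mem_closed (hCc i') ?_
      exact hCE i' _ (hNFmap _ _ hy₀) (hn.trans (trdeg_baseChange_le (isPullback_XTmap f (D.map φ)) y₀)))
  let q := PicF.XTproj f c.pt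
  let t := q x
  haveI : LocallyOfFiniteType (q.fiberToSpecResidueField t) := MorphismProperty.pullback_snd q _ inferInstance
  haveI : IsLocallyNoetherian (q.fiber t) := LocallyOfFiniteType.isLocallyNoetherian (q.fiberToSpecResidueField t)
  haveI : CompactSpace (q.fiber t) := QuasiCompact.compactSpace_of_compactSpace (q.fiberToSpecResidueField t)
  haveI : IsNoetherian (q.fiber t) := {}
  let A : I → Closeds (q.fiber t) := fun i =>
    ⟨(fun w => PicF.XTmap f (c.π.app i) (q.fiberι t w)) ⁻¹' NF (D.obj i),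
      (hNF (D.obj i)).preimage ((PicF.XTmap f (c.π.app i)).continuous.comp (q.fiberι t).continuous)⟩
  obtain ⟨_, ⟨j, rfl⟩, hmin⟩ := (wellFounded_lt (α := Closeds (q.fiber t))).has_min (Set.range A)
    (let ⟨i⟩ : Nonempty I := IsCofiltered.nonempty; ⟨_, i, rfl⟩)
  obtain ⟨y, hyNF, hyn, hyf, -⟩ := hEC j _ (hx j)
  have ht : (c.π.app j).left t = PicF.XTproj f (D.obj j) y := by
    rw [hyf]
    exact congr($((isPullback_XTmap f (c.π.app j)).w) x).symm
  obtain ⟨z, hzy, hzt, hzn⟩ := exists_trdeg_baseChange_ge (isPullback_XTmap f (c.π.app j)) y t ht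
  obtain ⟨w, hw⟩ : ∃ w, q.fiberι t w = z := (q.range_fiberι t).ge hzt
  refine absurd (hyn.trans hzn) (not_le.2 (h z fun hflat => ?_))
  obtain ⟨i, hi⟩ := exists_stage_flatAt' f F D c hF hc (hD := hD) (hT := hT) z hflat
  let k := IsCofiltered.min i j
  have hsub : ∀ {i' : I} (φ : k ⟶ i'), A k ≤ A i' := fun φ w' hw' => by
    show PicF.XTmap f (c.π.app _) (q.fiberι t w') ∈ NF _
    rw [← c.w φ, XTmap_comp, Scheme.Hom.comp_apply]
    exact hNFmap _ _ hw'
  have hjk : A j ≤ A k := ((hsub (IsCofiltered.minToRight i j)).lt_or_eq.resolve_left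
    (hmin _ ⟨k, rfl⟩)).ge
  have hwj : w ∈ (A j : Set _) := by
    show PicF.XTmap f (c.π.app j) (q.fiberι t w) ∈ NF _
    rw [hw, hzy]
    exact hyNF
  have := hsub (IsCofiltered.minToLeft i j) (hjk hwj)
  change PicF.XTmap f (c.π.app i) (q.fiberι t w) ∈ NF _ at this
  rw [hw] at this
  exact this hi

theorem isLimitPreserving_flatDimGE [QuasiCompact f] [LocallyOfFinitePresentation f] (hF : CohB1.IsFP F) (n : ℕ) :
    AlgSp.IsLimitPreserving (FlatFun.genPSp S (FlatDimGE f F n)) :=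
  isLimitPreserving_genPSp _ (flatDimGE_stable f F n)
    fun _ _ _ D c hc hD hT h => exists_stage_flatDimGE f F D c hF n hc hD hT h

end Limit

end GrothLib.FunFlat6
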