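import Groth.Prelude.Def_FlatFun
import Groth.Agent.Lib.FunFlat6.Point
import Groth.Agent.Lib.OX.Exact
import Groth.Agent.Lib.FlatFP.InjCokerSheaf
import Mathlib.AlgebraicGeometry.Sites.Fpqc

/-!
# Flattening functors are sheaves for the fpqc topology
-/

set_option autoImplicit false
set_option linter.style.haveILetI false

universe u

open CategoryTheory CategoryTheory.Limits AlgebraicGeometry Opposite TensorProduct

namespace GrothLib.FunFlat6

variable {S : Scheme.{u}}

/-- A condition stable under morphisms and local for jointly surjective flat families gives a sheaf. -/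
theorem isSheaf_genPSp (P : Over S → Prop) (hst : ∀ ⦃T T₀ : Over S⦄ (_ : T ⟶ T₀), P T₀ → P T)
    (hloc : ∀ ⦃T : Over S⦄ {ι : Type u} (Ti : ι → Over S) (g : ∀ i, Ti i ⟶ T),
      (∀ i, Flat (g i).left) → (∀ t : T.left, ∃ i, t ∈ Set.range (g i).left) → (∀ i, P (Ti i)) → P T) :
    Presheaf.IsSheaf (QuotSh.J Scheme.fpqcPrecoverage S) (FlatFun.genPSp S P) := by
  rw [isSheaf_iff_isSheaf_of_type]
  intro T R hR
  rw [GrothendieckTopology.mem_over_iff] at hR
  have hR' : Sieve.overEquiv T R ∈ (Scheme.precoverage @Flat).toGrothendieck T.left :=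
    Precoverage.toGrothendieck_mono inf_le_right _ hR
  obtain ⟨𝒰, h𝒰⟩ := Scheme.mem_grothendieckTopology_iff.1 hR'
  intro x _
  have hP : P T := by
    refine hloc (fun i : 𝒰.I₀ => Over.mk (𝒰.f i ≫ T.hom)) (fun i => Over.homMk (𝒰.f i) rfl)
      (fun i => 𝒰.map_prop i) (fun t => ⟨𝒰.idx t, 𝒰.covers t⟩) fun i => ?_
    have hm : R.arrows (Over.homMk (𝒰.f i) rfl : Over.mk (𝒰.f i ≫ T.hom) ⟶ T) :=
      (Sieve.overEquiv_iff _ _).1 (h𝒰 _ _ ⟨i⟩)
    exact (FlatFun.genPSp_nonempty_iff_of_stable P hst _).1 ⟨x _ hm⟩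
  exact ⟨(FlatFun.genPSp_nonempty_of P hP).some, fun _ _ _ => Subsingleton.elim _ _,
    fun _ _ => Subsingleton.elim _ _⟩

section Stalks

variable {Y Z : Scheme.{u}} (h : Z ⟶ Y)

theorem faithfullyFlat_stalk [Flat h] (z : Z) :
    letI := (h.stalkMap z).hom.toAlgebra
    Module.FaithfullyFlat (Y.presheaf.stalk (h z)) (Z.presheaf.stalk z) := by
  letI := (h.stalkMap z).hom.toAlgebra
  haveI : Module.Flat (Y.presheaf.stalk (h z)) (Z.presheaf.stalk z) := Flat.stalkMap h z
  haveI : IsLocalHom (algebraMap (Y.presheaf.stalk (h z)) (Z.presheaf.stalk z)) :=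
    inferInstanceAs (IsLocalHom (h.stalkMap z).hom)
  exact Module.FaithfullyFlat.of_flat_of_isLocalHom

variable {M N : Y.Modules} (v : M ⟶ N)

theorem stalk_pullback_map_eq (z : Z) :
    (OX.stalk z).map ((Scheme.Modules.pullback h).map v) =
      ((QCoh.stalkPullbackIso h z).app M).hom ≫
        (ModuleCat.extendScalars (h.stalkMap z).hom).map ((OX.stalk (h z)).map v) ≫
          ((QCoh.stalkPullbackIso h z).app N).inv := by
  erw [← (QCoh.stalkPullbackIso h z).hom.naturality_assoc v]
  simp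

variable [Flat h]

theorem stalk_mono_pullback_iff (z : Z) :
    Mono ((OX.stalk z).map ((Scheme.Modules.pullback h).map v)) ↔ Mono ((OX.stalk (h z)).map v) := by
  letI := (h.stalkMap z).hom.toAlgebra
  haveI := faithfullyFlat_stalk h z
  have key : Mono ((ModuleCat.extendScalars (h.stalkMap z).hom).map ((OX.stalk (h z)).map v)) ↔
      Mono ((OX.stalk (h z)).map v) := by
    rw [ModuleCat.mono_iff_injective, ModuleCat.mono_iff_injective]
    exact Module.FaithfullyFlat.lTensor_injective_iff_injective (Y.presheaf.stalk (h z))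
      (Z.presheaf.stalk z) ((OX.stalk (h z)).map v).hom
  rw [stalk_pullback_map_eq, mono_comp_iff_of_isIso, mono_comp_iff_of_mono, key]

theorem stalk_epi_pullback_iff (z : Z) :
    Epi ((OX.stalk z).map ((Scheme.Modules.pullback h).map v)) ↔ Epi ((OX.stalk (h z)).map v) := by
  letI := (h.stalkMap z).hom.toAlgebra
  haveI := faithfullyFlat_stalk h z
  have key : Epi ((ModuleCat.extendScalars (h.stalkMap z).hom).map ((OX.stalk (h z)).map v)) ↔
      Epi ((OX.stalk (h z)).map v) := by
    rw [ModuleCat.epi_iff_surjective, ModuleCat.epi_iff_surjective]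
    exact Module.FaithfullyFlat.lTensor_surjective_iff_surjective (Y.presheaf.stalk (h z))
      (Z.presheaf.stalk z) ((OX.stalk (h z)).map v).hom
  rw [stalk_pullback_map_eq, epi_comp_iff_of_epi, epi_comp_iff_of_isIso, key]

theorem stalk_zero_pullback_iff (z : Z) :
    (OX.stalk z).map ((Scheme.Modules.pullback h).map v) = 0 ↔ (OX.stalk (h z)).map v = 0 := by
  letI := (h.stalkMap z).hom.toAlgebra
  haveI := faithfullyFlat_stalk h z
  rw [stalk_pullback_map_eq, ← cancel_epi ((QCoh.stalkPullbackIso h z).app M).inv, Iso.inv_hom_id_assoc,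
    comp_zero, ← cancel_mono ((QCoh.stalkPullbackIso h z).app N).hom, Category.assoc, Iso.inv_hom_id,
    Category.comp_id, zero_comp]
  refine ⟨fun e => ?_, fun e => by rw [e, Functor.map_zero]⟩
  ext m
  refine Module.FaithfullyFlat.tensorProduct_mk_injective (A := Y.presheaf.stalk (h z))
    (B := Z.presheaf.stalk z) _ ?_
  show (1 : Z.presheaf.stalk z) ⊗ₜ[Y.presheaf.stalk (h z)] ((OX.stalk (h z)).map v m) =
    (1 : Z.presheaf.stalk z) ⊗ₜ[Y.presheaf.stalk (h z)] 0
  rw [TensorProduct.tmul_zero]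
  exact congr($e ((1 : Z.presheaf.stalk z) ⊗ₜ[Y.presheaf.stalk (h z)] m))

end Stalks

variable {Y : Scheme.{u}} {M N : Y.Modules} (v : M ⟶ N) {ι : Type*} {Z : ι → Scheme.{u}}
  (h : ∀ i, Z i ⟶ Y) [∀ i, Flat (h i)] (hsurj : ∀ y : Y, ∃ i, y ∈ Set.range (h i))

include hsurj

theorem mono_iff_pullback : Mono v ↔ ∀ i, Mono ((Scheme.Modules.pullback (h i)).map v) := by
  refine ⟨fun hv i => (OX.mono_iff _).2 fun z => (stalk_mono_pullback_iff (h i) v z).2 ((OX.mono_iff _).1 hv _),
    fun hv => (OX.mono_iff _).2 fun y => ?_⟩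
  obtain ⟨i, z, rfl⟩ := hsurj y
  exact (stalk_mono_pullback_iff (h i) v z).1 ((OX.mono_iff _).1 (hv i) z)

theorem epi_iff_pullback : Epi v ↔ ∀ i, Epi ((Scheme.Modules.pullback (h i)).map v) := by
  refine ⟨fun hv i => (OX.epi_iff _).2 fun z => (stalk_epi_pullback_iff (h i) v z).2 ((OX.epi_iff _).1 hv _),
    fun hv => (OX.epi_iff _).2 fun y => ?_⟩
  obtain ⟨i, z, rfl⟩ := hsurj y
  exact (stalk_epi_pullback_iff (h i) v z).1 ((OX.epi_iff _).1 (hv i) z)

theorem zero_iff_pullback : v = 0 ↔ ∀ i, (Scheme.Modules.pullback (h i)).map v = 0 := by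
  refine ⟨fun hv i => ?_, fun hv => (OX.eq_zero_iff v).2 fun y => ?_⟩
  · exact (OX.eq_zero_iff _).2 fun z => (stalk_zero_pullback_iff (h i) v z).2 ((OX.eq_zero_iff _).1 hv _)
  · obtain ⟨i, z, rfl⟩ := hsurj y
    exact (stalk_zero_pullback_iff (h i) v z).1 ((OX.eq_zero_iff _).1 (hv i) z)

omit hsurj

section BaseChange

variable {X : Scheme.{u}} (f : X ⟶ S) {T T' : Over S} (g : T' ⟶ T)

theorem isPullback_XTmap :
    IsPullback (PicF.XTmap f g) (PicF.XTproj f T') (PicF.XTproj f T) g.left := by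
  refine IsPullback.of_right ?_ (pullback.lift_snd _ _ _) (IsPullback.of_hasPullback f T.hom)
  rw [FGA.XTmap_fst, Over.w]
  exact IsPullback.of_hasPullback f T'.hom

theorem flat_XTmap [Flat g.left] : Flat (PicF.XTmap f g) :=
  MorphismProperty.of_isPullback (P := @Flat) (isPullback_XTmap f g).flip inferInstance

theorem exists_XTmap {ι : Type*} {Ti : ι → Over S} (g : ∀ i, Ti i ⟶ T)
    (hsurj : ∀ t : T.left, ∃ i, t ∈ Set.range (g i).left) (x : PicF.XT f T) :
    ∃ i, x ∈ Set.range (PicF.XTmap f (g i)) := by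
  obtain ⟨i, t', ht'⟩ := hsurj (PicF.XTproj f T x)
  obtain ⟨z, hz, -⟩ := Scheme.exists_preimage_of_isPullback (isPullback_XTmap f (g i)) x t' ht'.symm
  exact ⟨i, z, hz⟩

variable {F G : X.Modules} (u : F ⟶ G)

/-- Base changes of a homomorphism compose. -/
noncomputable def pullComp :
    Scheme.Modules.pullback (pullback.fst f T.hom) ⋙ Scheme.Modules.pullback (PicF.XTmap f g) ≅
      Scheme.Modules.pullback (pullback.fst f T'.hom) :=
  Scheme.Modules.pullbackComp (PicF.XTmap f g) (pullback.fst f T.hom) ≪≫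
    Scheme.Modules.pullbackCongr (FGA.XTmap_fst f g)

theorem mono_map_iff :
    Mono ((Scheme.Modules.pullback (pullback.fst f T'.hom)).map u) ↔
      Mono ((Scheme.Modules.pullback (PicF.XTmap f g)).map
        ((Scheme.Modules.pullback (pullback.fst f T.hom)).map u)) :=
  ((MorphismProperty.monomorphisms _).arrow_mk_iso_iff
    (((Functor.mapArrowFunctor _ _).mapIso (pullComp f g)).app (Arrow.mk u))).symm

theorem epi_map_iff :
    Epi ((Scheme.Modules.pullback (pullback.fst f T'.hom)).map u) ↔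
      Epi ((Scheme.Modules.pullback (PicF.XTmap f g)).map
        ((Scheme.Modules.pullback (pullback.fst f T.hom)).map u)) :=
  ((MorphismProperty.epimorphisms _).arrow_mk_iso_iff
    (((Functor.mapArrowFunctor _ _).mapIso (pullComp f g)).app (Arrow.mk u))).symm

theorem zero_map_iff :
    (Scheme.Modules.pullback (pullback.fst f T'.hom)).map u = 0 ↔
      (Scheme.Modules.pullback (PicF.XTmap f g)).map
        ((Scheme.Modules.pullback (pullback.fst f T.hom)).map u) = 0 := by
  have e := (pullComp f g).hom.naturality u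
  constructor <;> intro h
  · rw [h, comp_zero] at e
    exact (cancel_mono ((pullComp f g).hom.app G)).1 (e.trans zero_comp.symm)
  · rw [Functor.comp_map, h, zero_comp] at e
    exact (cancel_epi ((pullComp f g).hom.app F)).1 (e.symm.trans comp_zero.symm)

end BaseChange

section Functors

variable {X : Scheme.{u}} (f : X ⟶ S) {F G : X.Modules} (u : F ⟶ G)

theorem mono_baseChange_iff {T : Over S} {ι : Type*} (Ti : ι → Over S) (g : ∀ i, Ti i ⟶ T)
    (hfl : ∀ i, Flat (g i).left) (hsurj : ∀ t : T.left, ∃ i, t ∈ Set.range (g i).left) :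
    Mono ((Scheme.Modules.pullback (pullback.fst f T.hom)).map u) ↔
      ∀ i, Mono ((Scheme.Modules.pullback (pullback.fst f (Ti i).hom)).map u) := by
  haveI := fun i => haveI := hfl i; flat_XTmap f (g i)
  rw [mono_iff_pullback _ (fun i => PicF.XTmap f (g i)) (exists_XTmap f g hsurj)]
  exact forall_congr' fun i => (mono_map_iff f (g i) u).symm

theorem isSheaf_surj :
    Presheaf.IsSheaf (QuotSh.J Scheme.fpqcPrecoverage S)
      (FlatFun.genPSp S fun T => Epi ((Scheme.Modules.pullback (pullback.fst f T.hom)).map u)) := by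
  refine isSheaf_genPSp _ (fun T T₀ g h => (epi_map_iff f g u).2 ?_) fun T ι Ti g hfl hsurj h => ?_
  · haveI : (Scheme.Modules.pullback (PicF.XTmap f g)).IsLeftAdjoint :=
      (Scheme.Modules.pullbackPushforwardAdjunction _).isLeftAdjoint
    infer_instance
  · haveI := fun i => haveI := hfl i; flat_XTmap f (g i)
    exact (epi_iff_pullback _ (fun i => PicF.XTmap f (g i)) (exists_XTmap f g hsurj)).2
      fun i => (epi_map_iff f (g i) u).1 (h i)

theorem isSheaf_zero :
    Presheaf.IsSheaf (QuotSh.J Scheme.fpqcPrecoverage S)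
      (FlatFun.genPSp S fun T => (Scheme.Modules.pullback (pullback.fst f T.hom)).map u = 0) := by
  refine isSheaf_genPSp _ (fun T T₀ g h => (zero_map_iff f g u).2 ?_) fun T ι Ti g hfl hsurj h => ?_
  · rw [h]
    haveI : (Scheme.Modules.pullback (PicF.XTmap f g)).IsLeftAdjoint :=
      (Scheme.Modules.pullbackPushforwardAdjunction _).isLeftAdjoint
    exact (Scheme.Modules.pullback (PicF.XTmap f g)).map_zero _ _
  · haveI := fun i => haveI := hfl i; flat_XTmap f (g i)
    exact (zero_iff_pullback _ (fun i => PicF.XTmap f (g i)) (exists_XTmap f g hsurj)).2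
      fun i => (zero_map_iff f (g i) u).1 (h i)

theorem isSheaf_iso :
    Presheaf.IsSheaf (QuotSh.J Scheme.fpqcPrecoverage S)
      (FlatFun.genPSp S fun T => IsIso ((Scheme.Modules.pullback (pullback.fst f T.hom)).map u)) := by
  refine isSheaf_genPSp _ (fun T T₀ g h => ?_) fun T ι Ti g hfl hsurj h => ?_
  · haveI := h
    exact ((MorphismProperty.isomorphisms _).arrow_mk_iso_iff
      (((Functor.mapArrowFunctor _ _).mapIso (pullComp f g)).app (Arrow.mk u))).1
      (inferInstanceAs (IsIso ((Scheme.Modules.pullback (PicF.XTmap f g)).map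
        ((Scheme.Modules.pullback (pullback.fst f T₀.hom)).map u))))
  · haveI := fun i => haveI := hfl i; flat_XTmap f (g i)
    haveI := fun i => h i
    haveI : Mono ((Scheme.Modules.pullback (pullback.fst f T.hom)).map u) :=
      (mono_baseChange_iff f u Ti g hfl hsurj).2 fun i => inferInstance
    haveI : Epi ((Scheme.Modules.pullback (pullback.fst f T.hom)).map u) :=
      (epi_iff_pullback _ (fun i => PicF.XTmap f (g i)) (exists_XTmap f g hsurj)).2
        fun i => (epi_map_iff f (g i) u).1 inferInstance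
    exact isIso_of_mono_of_epi _

/-- Flatness of the base change over the base, transported along a morphism. -/
theorem flatAt_baseChange (F : X.Modules) [F.IsQuasicoherent] {T T' : Over S} (g : T' ⟶ T)
    (y : PicF.XT f T')
    (h : FlatMod.IsFlatOverAt (PicF.XTproj f T) (FGA.ET f F T) (PicF.XTmap f g y)) :
    FlatMod.IsFlatOverAt (PicF.XTproj f T') (FGA.ET f F T') y := by
  haveI : (FGA.ET f F T).IsQuasicoherent := FittSheaf.isQuasicoherent_pullback _ F
  exact (FlatFP.isFlatOverAt_congr _ (FGA.ETiso f F g) y).1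
    (FlatFP.isFlatOverAt_baseChange _ _ _ _ (isPullback_XTmap f g) _ y h)

theorem isSheaf_flat (F : X.Modules) [F.IsQuasicoherent] :
    Presheaf.IsSheaf (QuotSh.J Scheme.fpqcPrecoverage S)
      (FlatFun.genPSp S fun T => FlatMod.IsFlatOver (PicF.XTproj f T) (FGA.ET f F T)) := by
  refine isSheaf_genPSp _ (fun T T₀ g h y => flatAt_baseChange f F g y (h _))
    fun T ι Ti g hfl hsurj h x => ?_
  obtain ⟨i, y, rfl⟩ := exists_XTmap f g hsurj x
  haveI := hfl i
  exact isFlatOverAt_descend (isPullback_XTmap f (g i)) _ y (Flat.stalkMap _ _)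
    ((FlatFP.isFlatOverAt_congr _ (FGA.ETiso f F (g i)) y).2 (h i y))

end Functors

end GrothLib.FunFlat6
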