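import Groth.Agent.Lib.FunFlat6.FlatDim
import Groth.Agent.Lib.FunFlat6.Point
import Groth.Agent.Lib.EtFibre.Basic

/-!
# Flatness in dimensions at least `n` and etale pullback
-/

set_option autoImplicit false
set_option linter.style.haveILetI false

universe u

open CategoryTheory CategoryTheory.Limits AlgebraicGeometry

namespace GrothLib.FunFlat6

/-- The functor of flatness in dimensions at least `n` shrinks along etale pullback. -/
theorem flatDimGE_etale_pullback {X X' S : Scheme.{u}} (f : X ⟶ S) (F : X.Modules) [F.IsQuasicoherent]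
    (h : X' ⟶ X) [Etale h] (n : ℕ) (T : Over S)
    (hT : FlatFun.DimFibresLT n (PicF.XTproj f T)
        {x | ¬ FlatMod.IsFlatOverAt (PicF.XTproj f T) (FGA.ET f F T) x}) :
    FlatFun.DimFibresLT n (PicF.XTproj (h ≫ f) T)
        {x | ¬ FlatMod.IsFlatOverAt (PicF.XTproj (h ≫ f) T) (FGA.ET (h ≫ f) ((Scheme.Modules.pullback h).obj F) T) x} := by
  let a : PicF.XT (h ≫ f) T ⟶ PicF.XT f T :=
    pullback.lift (pullback.fst (h ≫ f) T.hom ≫ h) (pullback.snd (h ≫ f) T.hom)
      (by rw [Category.assoc]; exact pullback.condition)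
  have ha₁ : a ≫ pullback.fst f T.hom = pullback.fst (h ≫ f) T.hom ≫ h := pullback.lift_fst _ _ _
  have ha₂ : a ≫ PicF.XTproj f T = PicF.XTproj (h ≫ f) T := pullback.lift_snd _ _ _
  haveI : Etale a := by
    have hs : IsPullback (pullback.fst (h ≫ f) T.hom) (a ≫ PicF.XTproj f T) (h ≫ f) T.hom := by
      rw [ha₂]
      exact IsPullback.of_hasPullback (h ≫ f) T.hom
    exact MorphismProperty.of_isPullback (P := @Etale)
      (IsPullback.of_bot hs ha₁.symm (IsPullback.of_hasPullback f T.hom)) ‹Etale h›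
  haveI : (FGA.ET f F T).IsQuasicoherent := FittSheaf.isQuasicoherent_pullback (pullback.fst f T.hom) F
  intro x hx
  have hnf : ¬ FlatMod.IsFlatOverAt (PicF.XTproj f T) (FGA.ET f F T) (a x) := fun hflat => hx (by
    refine (isFlatOverAt_congr_map ha₂ _ x).1 ?_
    have e : FGA.ET (h ≫ f) ((Scheme.Modules.pullback h).obj F) T ≅
        (Scheme.Modules.pullback a).obj (FGA.ET f F T) :=
      (Scheme.Modules.pullbackComp _ h).app F ≪≫ (Scheme.Modules.pullbackCongr ha₁.symm).app F ≪≫
        ((Scheme.Modules.pullbackComp a _).app F).symm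
    exact (FlatFP.isFlatOverAt_congr _ e x).2
      ((isFlatOverAt_comp_pullback_iff' a _ _ x (Flat.stalkMap a x)).2 hflat))
  haveI : Etale (𝟙 T.left) := inferInstance
  exact (EtFibre.trdeg_eq (PicF.XTproj f T) (PicF.XTproj (h ≫ f) T) a (𝟙 _)
    ((Category.comp_id _).trans ha₂.symm) x).symm.trans_lt (hT _ hnf)

end GrothLib.FunFlat6
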