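import Groth.Agent.Lib.EssDim.BaseChange
import Mathlib.AlgebraicGeometry.ResidueField
import Mathlib.AlgebraicGeometry.Pullbacks
import Mathlib.RingTheory.AlgebraicIndependent.Adjoin
import Mathlib.FieldTheory.IsAlgClosed.AlgebraicClosure

/-!
# Transcendence degrees of residue fields in a base change
-/

set_option autoImplicit false
set_option linter.style.haveILetI false

universe u

open CategoryTheory CategoryTheory.Limits AlgebraicGeometry

namespace GrothLib.FunFlat6

/-- An extension field receiving a field extension and a further extension of the base with a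
transcendence basis staying independent. -/
theorem exists_indep_extension {k L k' : Type u} [Field k] [Field L] [Field k'] (i : k →+* L) (j : k →+* k') :
    ∃ (Ω : Type u) (_ : Field Ω) (σ : L →+* Ω) (τ : k' →+* Ω) (s : Set L),
      σ.comp i = τ.comp j ∧
      Cardinal.mk s = @Algebra.trdeg k L _ _ i.toAlgebra ∧
      @AlgebraicIndependent s k' Ω (fun b => σ b) _ _ τ.toAlgebra := by
  letI := i.toAlgebra
  letI := j.toAlgebra
  obtain ⟨s, hs⟩ := exists_isTranscendenceBasis k L
  let Q := FractionRing (MvPolynomial s k')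
  let Ω := AlgebraicClosure Q
  let τ : k' →+* Ω := algebraMap k' Ω
  haveI : IsScalarTower k k' Q := inferInstance
  haveI hT : IsScalarTower k k' Ω := IsScalarTower.of_algebraMap_eq fun a => by
    show _ = algebraMap Q Ω (algebraMap k' Q (algebraMap k k' a))
    rw [← IsScalarTower.algebraMap_apply k k' Q, ← IsScalarTower.algebraMap_apply k Q Ω]
  let y : s → Ω := fun b => algebraMap Q Ω (algebraMap (MvPolynomial s k') Q (MvPolynomial.X b))
  have hy' : AlgebraicIndependent k' y :=
    ((MvPolynomial.algebraicIndependent_X s k').map'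
      (f := IsScalarTower.toAlgHom k' (MvPolynomial s k') Q)
      (IsFractionRing.injective (MvPolynomial s k') Q)).map'
      (f := IsScalarTower.toAlgHom k' Q Ω) (algebraMap Q Ω).injective
  have hy : AlgebraicIndependent k y := hy'.restrictScalars j.injective
  let e₁ : FractionRing (MvPolynomial s k) ≃ₐ[k] ↥(IntermediateField.adjoin k (Set.range ((↑) : s → L))) :=
    hs.1.aevalEquivField
  let φ : ↥(IntermediateField.adjoin k (Set.range ((↑) : s → L))) →ₐ[k] Ω :=
    ((IntermediateField.adjoin k (Set.range y)).val.comp hy.aevalEquivField.toAlgHom).comp e₁.symm.toAlgHom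
  letI : Algebra ↥(IntermediateField.adjoin k (Set.range ((↑) : s → L))) Ω := φ.toRingHom.toAlgebra
  haveI : Algebra.IsAlgebraic ↥(IntermediateField.adjoin k (Set.range ((↑) : s → L))) L := hs.isAlgebraic_field
  let σ : L →ₐ[↥(IntermediateField.adjoin k (Set.range ((↑) : s → L)))] Ω := IsAlgClosed.lift
  have hσk : σ.toRingHom.comp i = τ.comp j := RingHom.ext fun a => by
    show σ (algebraMap k L a) = _
    rw [IsScalarTower.algebraMap_apply k ↥(IntermediateField.adjoin k (Set.range ((↑) : s → L))) L, σ.commutes]
    exact (φ.commutes a).trans (IsScalarTower.algebraMap_apply k k' Ω a)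
  have hσb : ∀ b : s, σ (b : L) = y b := by
    intro b
    have hb : (b : L) ∈ IntermediateField.adjoin k (Set.range ((↑) : s → L)) :=
      IntermediateField.subset_adjoin k _ ⟨b, rfl⟩
    rw [show σ (b : L) = φ ⟨(b : L), hb⟩ from σ.commutes ⟨(b : L), hb⟩]
    have h1 : e₁ (algebraMap (MvPolynomial s k) _ (MvPolynomial.X b)) = ⟨(b : L), hb⟩ := by
      apply Subtype.ext
      simp [e₁]
    rw [← h1]
    simp [φ]
  refine ⟨Ω, AlgebraicClosure.instField Q, σ.toRingHom, τ, s, hσk, hs.cardinalMk_eq_trdeg, ?_⟩
  have hfun : (fun b : s => σ.toRingHom (b : L)) = y := funext hσb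
  rw [hfun]
  convert hy' using 1
  all_goals first
    | rfl
    | exact Algebra.algebra_ext (R := k') (A := Ω) τ.toAlgebra _ fun _ => rfl

variable {X S X' S' : Scheme.{u}} {f : X ⟶ S} {f' : X' ⟶ S'} {q : X' ⟶ X} {g : S' ⟶ S}

/-- The compatibility of residue fields in a square. -/
theorem residueFieldMap_square (w : q ≫ f = f' ≫ g) (z : X') :
    f.residueFieldMap (q z) ≫ q.residueFieldMap z =
      ((S.residueFieldCongr (show f (q z) = g (f' z) by
          rw [← Scheme.Hom.comp_apply, ← Scheme.Hom.comp_apply, w])).hom ≫ g.residueFieldMap (f' z)) ≫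
        f'.residueFieldMap z := by
  have key := Scheme.Hom.residueFieldMap_congr w z
  rw [Scheme.residueFieldMap_comp, Scheme.residueFieldMap_comp] at key
  rw [key, Category.assoc]
  rfl

set_option maxHeartbeats 1000000 in
/-- The residue field of a point of a base change is generated by those of its images. -/
theorem adjoin_residueField_eq_top (sq : IsPullback q f' f g) (z : X') :
    letI := (f'.residueFieldMap z).hom.toAlgebra
    IntermediateField.adjoin (S'.residueField (f' z)) (Set.range (q.residueFieldMap z).hom) =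
      (⊤ : IntermediateField (S'.residueField (f' z)) (X'.residueField z)) := by
  letI := (f'.residueFieldMap z).hom.toAlgebra
  let E : IntermediateField (S'.residueField (f' z)) (X'.residueField z) :=
    IntermediateField.adjoin (S'.residueField (f' z)) (Set.range (q.residueFieldMap z).hom)
  let jx : X.residueField (q z) ⟶ CommRingCat.of E :=
    CommRingCat.ofHom ((q.residueFieldMap z).hom.codRestrict E fun a =>
      IntermediateField.subset_adjoin _ _ ⟨a, rfl⟩)
  let jt : S'.residueField (f' z) ⟶ CommRingCat.of E := CommRingCat.ofHom (algebraMap (S'.residueField (f' z) : Type u) E)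
  let v : CommRingCat.of E ⟶ X'.residueField z := CommRingCat.ofHom E.val.toRingHom
  have hx : jx ≫ v = q.residueFieldMap z := rfl
  have ht : jt ≫ v = f'.residueFieldMap z := rfl
  haveI : Mono v := ConcreteCategory.mono_of_injective _ Subtype.val_injective
  have hcomm : (Spec.map jx ≫ X.fromSpecResidueField (q z)) ≫ f =
      (Spec.map jt ≫ S'.fromSpecResidueField (f' z)) ≫ g := by
    have h1 : f.residueFieldMap (q z) ≫ jx =
        ((S.residueFieldCongr (show f (q z) = g (f' z) by
          rw [← Scheme.Hom.comp_apply, ← Scheme.Hom.comp_apply, sq.w])).hom ≫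
            g.residueFieldMap (f' z)) ≫ jt := by
      rw [← cancel_mono v, Category.assoc, hx, Category.assoc, ht]
      exact residueFieldMap_square sq.w z
    rw [Category.assoc, ← Scheme.Hom.SpecMap_residueFieldMap_fromSpecResidueField, ← Spec.map_comp_assoc, h1,
      Category.assoc, Category.assoc, ← Scheme.Hom.SpecMap_residueFieldMap_fromSpecResidueField,
      Spec.map_comp, Spec.map_comp, Category.assoc, Category.assoc, Scheme.residueFieldCongr_fromSpecResidueField]
  let a := sq.lift _ _ hcomm
  have ha : Spec.map v ≫ a = X'.fromSpecResidueField z := by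
    refine sq.hom_ext ?_ ?_
    · rw [Category.assoc, IsPullback.lift_fst, ← Spec.map_comp_assoc, hx,
        Scheme.Hom.SpecMap_residueFieldMap_fromSpecResidueField]
    · rw [Category.assoc, IsPullback.lift_snd, ← Spec.map_comp_assoc, ht,
        Scheme.Hom.SpecMap_residueFieldMap_fromSpecResidueField]
  let ζ := Scheme.SpecToEquivOfField E X' a
  have hζ : Spec.map ζ.2 ≫ X'.fromSpecResidueField ζ.1 = a :=
    (Scheme.SpecToEquivOfField E X').symm_apply_apply a
  have e : (⟨ζ.1, ζ.2 ≫ v⟩ : Σ y, X'.residueField y ⟶ CommRingCat.of (X'.residueField z)) =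
      ⟨z, 𝟙 _⟩ := by
    apply (Scheme.SpecToEquivOfField (X'.residueField z) X').symm.injective
    show Spec.map (ζ.2 ≫ v) ≫ X'.fromSpecResidueField ζ.1 = Spec.map (𝟙 _) ≫ X'.fromSpecResidueField z
    rw [Spec.map_comp, Category.assoc, hζ, ha, Spec.map_id, Category.id_comp]
  obtain ⟨e1, e2⟩ := Scheme.SpecToEquivOfField_eq_iff.1 e
  refine eq_top_iff.2 fun w _ => ?_
  have hsurj : Function.Surjective (ζ.2 ≫ v : X'.residueField ζ.1 ⟶ CommRingCat.of (X'.residueField z)) := by
    rw [show ζ.2 ≫ v = _ from e2]
    exact (ConcreteCategory.bijective_of_isIso ((X'.residueFieldCongr e1).hom ≫ 𝟙 _)).2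
  obtain ⟨w', rfl⟩ := hsurj w
  exact (ζ.2 w').2

/-- The transcendence degree of residue fields over the base does not grow under base change. -/
theorem trdeg_baseChange_le (sq : IsPullback q f' f g) (z : X') :
    @Algebra.trdeg (S'.residueField (f' z)) (X'.residueField z) _ _ (f'.residueFieldMap z).hom.toAlgebra ≤
      @Algebra.trdeg (S.residueField (f (q z))) (X.residueField (q z)) _ _
        (f.residueFieldMap (q z)).hom.toAlgebra := by
  letI := (f'.residueFieldMap z).hom.toAlgebra
  letI := (f.residueFieldMap (q z)).hom.toAlgebra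
  let j₀ : S.residueField (f (q z)) ⟶ S'.residueField (f' z) :=
    (S.residueFieldCongr (show f (q z) = g (f' z) by
      rw [← Scheme.Hom.comp_apply, ← Scheme.Hom.comp_apply, sq.w])).hom ≫ g.residueFieldMap (f' z)
  letI := j₀.hom.toAlgebra
  letI : Algebra (S.residueField (f (q z))) (X'.residueField z) :=
    ((f'.residueFieldMap z).hom.comp j₀.hom).toAlgebra
  haveI : IsScalarTower (S.residueField (f (q z))) (S'.residueField (f' z)) (X'.residueField z) :=
    IsScalarTower.of_algebraMap_eq' rfl
  let jx : X.residueField (q z) →ₐ[S.residueField (f (q z))] X'.residueField z :=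
    { (q.residueFieldMap z).hom with
      commutes' := fun a => congr($(residueFieldMap_square sq.w z) a) }
  have h1 := EssDim.trdeg_adjoin_le (K := S'.residueField (f' z)) jx.fieldRange
  have h2 : IntermediateField.adjoin (S'.residueField (f' z)) (jx.fieldRange : Set (X'.residueField z)) = ⊤ := by
    rw [AlgHom.coe_fieldRange]
    exact adjoin_residueField_eq_top sq z
  rw [h2] at h1
  calc _ = Algebra.trdeg (S'.residueField (f' z))
        (⊤ : IntermediateField (S'.residueField (f' z)) (X'.residueField z)) :=
        IntermediateField.topEquiv.trdeg_eq.symm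
    _ ≤ Algebra.trdeg (S.residueField (f (q z))) jx.fieldRange := h1
    _ = _ := (AlgEquiv.ofInjectiveField jx).trdeg_eq.symm

set_option maxHeartbeats 1000000 in
/-- Over a point of the base change of the base there is a point with no smaller transcendence degree. -/
theorem exists_trdeg_baseChange_ge (sq : IsPullback q f' f g) (x : X) (t' : S') (ht : g t' = f x) :
    ∃ z : X', q z = x ∧ f' z = t' ∧
      @Algebra.trdeg (S.residueField (f x)) (X.residueField x) _ _ (f.residueFieldMap x).hom.toAlgebra ≤
        @Algebra.trdeg (S'.residueField (f' z)) (X'.residueField z) _ _ (f'.residueFieldMap z).hom.toAlgebra := by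
  let j₀ : S.residueField (f x) ⟶ S'.residueField t' :=
    (S.residueFieldCongr ht.symm).hom ≫ g.residueFieldMap t'
  obtain ⟨Ω, _, σ, τ, s, hστ, hcard, hind⟩ := exists_indep_extension (f.residueFieldMap x).hom j₀.hom
  let σ' : X.residueField x ⟶ CommRingCat.of Ω := CommRingCat.ofHom σ
  let τ' : S'.residueField t' ⟶ CommRingCat.of Ω := CommRingCat.ofHom τ
  have hcomm : (Spec.map σ' ≫ X.fromSpecResidueField x) ≫ f =
      (Spec.map τ' ≫ S'.fromSpecResidueField t') ≫ g := by
    have h1 : f.residueFieldMap x ≫ σ' = ((S.residueFieldCongr ht.symm).hom ≫ g.residueFieldMap t') ≫ τ' :=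
      CommRingCat.hom_ext hστ
    rw [Category.assoc, ← Scheme.Hom.SpecMap_residueFieldMap_fromSpecResidueField, ← Spec.map_comp_assoc, h1,
      Category.assoc, Category.assoc, ← Scheme.Hom.SpecMap_residueFieldMap_fromSpecResidueField,
      Spec.map_comp, Spec.map_comp, Category.assoc, Category.assoc, Scheme.residueFieldCongr_fromSpecResidueField]
  let a := sq.lift _ _ hcomm
  obtain ⟨z, ι, hz⟩ : ∃ (z : X') (ι : X'.residueField z ⟶ CommRingCat.of Ω),
      Spec.map ι ≫ X'.fromSpecResidueField z = a :=
    ⟨_, _, (Scheme.SpecToEquivOfField Ω X').symm_apply_apply a⟩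
  have e1 : (⟨x, σ'⟩ : Σ y, X.residueField y ⟶ CommRingCat.of Ω) = ⟨q z, q.residueFieldMap z ≫ ι⟩ := by
    apply (Scheme.SpecToEquivOfField Ω X).symm.injective
    show Spec.map σ' ≫ X.fromSpecResidueField x = Spec.map (q.residueFieldMap z ≫ ι) ≫ X.fromSpecResidueField (q z)
    rw [Spec.map_comp, Category.assoc, Scheme.Hom.SpecMap_residueFieldMap_fromSpecResidueField,
      ← Category.assoc, hz, IsPullback.lift_fst]
  have e2 : (⟨t', τ'⟩ : Σ y, S'.residueField y ⟶ CommRingCat.of Ω) = ⟨f' z, f'.residueFieldMap z ≫ ι⟩ := by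
    apply (Scheme.SpecToEquivOfField Ω S').symm.injective
    show Spec.map τ' ≫ S'.fromSpecResidueField t' =
      Spec.map (f'.residueFieldMap z ≫ ι) ≫ S'.fromSpecResidueField (f' z)
    rw [Spec.map_comp, Category.assoc, Scheme.Hom.SpecMap_residueFieldMap_fromSpecResidueField,
      ← Category.assoc, hz, IsPullback.lift_snd]
  obtain ⟨hx, hσ⟩ := Scheme.SpecToEquivOfField_eq_iff.1 e1
  obtain ⟨ht', hτ⟩ := Scheme.SpecToEquivOfField_eq_iff.1 e2
  dsimp only at hx ht'
  subst hx
  subst ht'
  simp only [Scheme.residueFieldCongr_refl, Iso.refl_hom, Category.id_comp] at hσ hτ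
  refine ⟨z, rfl, rfl, ?_⟩
  letI := (f'.residueFieldMap z).hom.toAlgebra
  letI : Algebra (S'.residueField (f' z)) Ω := τ.toAlgebra
  let ιA : X'.residueField z →ₐ[S'.residueField (f' z)] Ω :=
    { ι.hom with commutes' := fun c => (congr($hτ c)).symm }
  have hw : AlgebraicIndependent (S'.residueField (f' z)) (fun b : s => q.residueFieldMap z (b : X.residueField (q z))) := by
    refine AlgebraicIndependent.of_comp ιA ?_
    have : (fun b : s => σ (b : X.residueField (q z))) =
        ιA ∘ fun b : s => q.residueFieldMap z (b : X.residueField (q z)) :=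
      funext fun b => congr($hσ (b : X.residueField (q z)))
    rw [← this]
    exact hind
  rw [← hcard]
  exact hw.cardinalMk_le_trdeg

end GrothLib.FunFlat6
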