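import Groth.Agent.Lib.FunFlat6.Sheaf
import Groth.Agent.Lib.FunFlat6.ResTrdeg

/-!
# Flatness in dimensions at least `n`: stability and fpqc locality
-/

set_option autoImplicit false
set_option linter.style.haveILetI false

universe u

open CategoryTheory CategoryTheory.Limits AlgebraicGeometry Opposite

namespace GrothLib.FunFlat6

variable {S X : Scheme.{u}} (f : X ⟶ S) (F : X.Modules) [F.IsQuasicoherent] (n : ℕ)

/-- The condition `F_T` is flat over `T` in dimensions at least `n`. -/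
abbrev FlatDimGE (T : Over S) : Prop :=
  FlatFun.DimFibresLT n (PicF.XTproj f T) {x | ¬ FlatMod.IsFlatOverAt (PicF.XTproj f T) (FGA.ET f F T) x}

theorem flatDimGE_stable ⦃T T₀ : Over S⦄ (g : T ⟶ T₀) (h : FlatDimGE f F n T₀) : FlatDimGE f F n T := by
  intro y hy
  exact (trdeg_baseChange_le (isPullback_XTmap f g) y).trans_lt
    (h (PicF.XTmap f g y) fun hflat => hy (flatAt_baseChange f F g y hflat))

theorem flatDimGE_local ⦃T : Over S⦄ {ι : Type*} (Ti : ι → Over S) (g : ∀ i, Ti i ⟶ T)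
    (hfl : ∀ i, Flat (g i).left) (hsurj : ∀ t : T.left, ∃ i, t ∈ Set.range (g i).left)
    (h : ∀ i, FlatDimGE f F n (Ti i)) : FlatDimGE f F n T := by
  intro x hx
  obtain ⟨i, t', ht'⟩ := hsurj (PicF.XTproj f T x)
  obtain ⟨z, rfl, -, hle⟩ := exists_trdeg_baseChange_ge (isPullback_XTmap f (g i)) x t' ht'
  haveI := hfl i
  refine hle.trans_lt (h i z fun hflat => hx ?_)
  exact isFlatOverAt_descend (isPullback_XTmap f (g i)) _ z (Flat.stalkMap _ _)
    ((FlatFP.isFlatOverAt_congr _ (FGA.ETiso f F (g i)) z).2 hflat)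

theorem isSheaf_flatDimGE :
    Presheaf.IsSheaf (QuotSh.J Scheme.fpqcPrecoverage S) (FlatFun.genPSp S (FlatDimGE f F n)) :=
  isSheaf_genPSp _ (flatDimGE_stable f F n) fun _ _ Ti g hfl hsurj h => flatDimGE_local f F n Ti g hfl hsurj h

end GrothLib.FunFlat6
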