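import Groth.Agent.Lib.FunFlat6.Sheaf
import Groth.Prelude.Def_AlgSpRep
import Mathlib.AlgebraicGeometry.AffineTransitionLimit
import Mathlib.CategoryTheory.Limits.Types.Filtered

/-!
# The limit preservation criterion and base changes of a cofiltered limit of affine schemes
-/

set_option autoImplicit false
set_option linter.style.haveILetI false

universe u

open CategoryTheory CategoryTheory.Limits AlgebraicGeometry Opposite

namespace GrothLib.FunFlat6

variable {S : Scheme.{u}}

/-- A stable condition which descends to a stage gives a limit preserving functor. -/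
theorem isLimitPreserving_genPSp (P : Over S → Prop) (hst : ∀ ⦃T T₀ : Over S⦄ (_ : T ⟶ T₀), P T₀ → P T)
    (hdesc : ∀ ⦃I : Type u⦄ [SmallCategory I] [IsCofiltered I] (D : I ⥤ Over S) (c : Cone D),
      IsLimit ((Over.forget S).mapCone c) → (∀ i, IsAffine (D.obj i).left) → IsAffine c.pt.left →
        P c.pt → ∃ i, P (D.obj i)) :
    AlgSp.IsLimitPreserving (FlatFun.genPSp S P) := by
  intro I _ _ D c hc hD hT
  refine ⟨Types.FilteredColimit.isColimitOf _ _ (fun x => ?_) fun i j xi xj _ => ?_⟩
  · obtain ⟨i, hi⟩ := hdesc D c hc hD hT ((FlatFun.genPSp_nonempty_iff_of_stable P hst _).1 ⟨x⟩)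
    exact ⟨op i, (FlatFun.genPSp_nonempty_of P hi).some, Subsingleton.elim (α := (FlatFun.genPSp S P).obj (op c.pt)) _ _⟩
  · exact ⟨IsFiltered.max i j, IsFiltered.leftToMax i j, IsFiltered.rightToMax i j,
      Subsingleton.elim (α := (FlatFun.genPSp S P).obj (D.op.obj (IsFiltered.max i j))) _ _⟩

variable {X : Scheme.{u}} (f : X ⟶ S) {I : Type u} [SmallCategory I] (D : I ⥤ Over S)

theorem XTmap_comp {T T' T'' : Over S} (g : T' ⟶ T) (g' : T'' ⟶ T') :
    PicF.XTmap f (g' ≫ g) = PicF.XTmap f g' ≫ PicF.XTmap f g :=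
  pullback.hom_ext
    (by rw [Category.assoc, FGA.XTmap_fst, FGA.XTmap_fst, FGA.XTmap_fst])
    (by
      show PicF.XTmap f (g' ≫ g) ≫ PicF.XTproj f T = (PicF.XTmap f g' ≫ PicF.XTmap f g) ≫ PicF.XTproj f T
      rw [(isPullback_XTmap f (g' ≫ g)).w, Category.assoc, (isPullback_XTmap f g).w,
        ← Category.assoc, (isPullback_XTmap f g').w, Category.assoc, Over.comp_left])

/-- The base changes of `f` to the stages. -/
noncomputable def XTfun : I ⥤ Scheme.{u} where
  obj i := PicF.XT f (D.obj i)
  map φ := PicF.XTmap f (D.map φ)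
  map_id i := pullback.hom_ext (by simp [PicF.XTmap]) (by simp [PicF.XTmap])
  map_comp φ ψ := by rw [D.map_comp, XTmap_comp]

variable (c : Cone D)

/-- The base change to the limit as a cone. -/
noncomputable def XTcone : Cone (XTfun f D) where
  pt := PicF.XT f c.pt
  π :=
    { app i := PicF.XTmap f (c.π.app i)
      naturality i j φ := by
        show 𝟙 _ ≫ PicF.XTmap f (c.π.app j) = PicF.XTmap f (c.π.app i) ≫ PicF.XTmap f (D.map φ)
        rw [Category.id_comp, ← XTmap_comp, c.w] }

variable [IsCofiltered I] (hc : IsLimit ((Over.forget S).mapCone c))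

include hc in
/-- Base change commutes with cofiltered limits. -/
theorem isLimit_XTcone : Nonempty (IsLimit (XTcone f D c)) := by
  obtain ⟨i₀⟩ : Nonempty I := IsCofiltered.nonempty
  have snd_nat : ∀ {i j : I} (φ : i ⟶ j),
      PicF.XTmap f (D.map φ) ≫ pullback.snd f (D.obj j).hom =
        pullback.snd f (D.obj i).hom ≫ (D.map φ).left := fun φ => pullback.lift_snd _ _ _
  let sndCone : Cone (XTfun f D) → Cone (D ⋙ Over.forget S) := fun s =>
    { pt := s.pt
      π :=
        { app := fun i => s.π.app i ≫ pullback.snd f (D.obj i).hom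
          naturality := fun i j φ => by
            show 𝟙 _ ≫ s.π.app j ≫ pullback.snd f (D.obj j).hom =
              (s.π.app i ≫ pullback.snd f (D.obj i).hom) ≫ (D.map φ).left
            rw [Category.id_comp, ← s.w φ, Category.assoc, Category.assoc]
            exact congrArg (s.π.app i ≫ ·) (snd_nat φ) } }
  have const : ∀ (s : Cone (XTfun f D)) (i j : I),
      s.π.app i ≫ pullback.fst f (D.obj i).hom = s.π.app j ≫ pullback.fst f (D.obj j).hom := by
    intro s i j
    let a := IsCofiltered.minToLeft i j
    let b := IsCofiltered.minToRight i j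
    rw [← s.w a, ← s.w b, Category.assoc, Category.assoc]
    exact (congrArg (s.π.app _ ≫ ·) (FGA.XTmap_fst f (D.map a))).trans
      (congrArg (s.π.app _ ≫ ·) (FGA.XTmap_fst f (D.map b))).symm
  have hlift : ∀ (s : Cone (XTfun f D)) (i : I),
      hc.lift (sndCone s) ≫ (c.π.app i).left = s.π.app i ≫ pullback.snd f (D.obj i).hom :=
    fun s i => hc.fac (sndCone s) i
  have w : ∀ s : Cone (XTfun f D),
      (s.π.app i₀ ≫ pullback.fst f (D.obj i₀).hom) ≫ f = hc.lift (sndCone s) ≫ c.pt.hom := by
    intro s
    have hw : (c.π.app i₀).left ≫ (D.obj i₀).hom = c.pt.hom := Over.w (c.π.app i₀)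
    exact (Category.assoc _ _ _).trans
      ((congrArg (s.π.app i₀ ≫ ·) pullback.condition).trans
        ((Category.assoc _ _ _).symm.trans
          ((congrArg (· ≫ (D.obj i₀).hom) (hlift s i₀).symm).trans
            ((Category.assoc _ _ _).trans (congrArg (hc.lift (sndCone s) ≫ ·) hw)))))
  exact ⟨{
    lift := fun s => pullback.lift (s.π.app i₀ ≫ pullback.fst f (D.obj i₀).hom) (hc.lift (sndCone s)) (w s)
    fac := fun s i => by
      show pullback.lift _ _ _ ≫ PicF.XTmap f (c.π.app i) = s.π.app i
      refine pullback.hom_ext ?_ ?_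
      · rw [Category.assoc, FGA.XTmap_fst, pullback.lift_fst]
        exact const s i₀ i
      · rw [Category.assoc, (isPullback_XTmap f (c.π.app i)).w, ← Category.assoc, pullback.lift_snd]
        exact hlift s i
    uniq := fun s m hm => by
      refine pullback.hom_ext ?_ ?_
      · rw [pullback.lift_fst, ← hm i₀, Category.assoc]
        exact congrArg (m ≫ ·) (FGA.XTmap_fst f (c.π.app i₀)).symm
      · rw [pullback.lift_snd]
        refine hc.hom_ext fun i => ?_
        refine Eq.trans ?_ (hlift s i).symm
        rw [← hm i]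
        exact (Category.assoc _ _ _).trans
          ((congrArg (m ≫ ·) (isPullback_XTmap f (c.π.app i)).w.symm).trans (Category.assoc _ _ _).symm) }⟩

omit [IsCofiltered I] in
theorem isAffineHom_XTmap {T T' : Over S} (g : T' ⟶ T) [IsAffine T.left] [IsAffine T'.left] :
    IsAffineHom (PicF.XTmap f g) :=
  MorphismProperty.of_isPullback (P := @IsAffineHom) (isPullback_XTmap f g).flip inferInstance

end GrothLib.FunFlat6
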